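import Cfsg.Agent.Lib.Solv.OddPair.Extra

/-!
The bounds on the group acting on the symplectic layer.
-/

set_option autoImplicit false
set_option linter.unusedSectionVars false
set_option linter.style.haveILetI false

namespace Cfsg.Agent.Solv.OddPair

universe u v

theorem Extra.bounds {A : Type v} [Group A] [Finite A] {K : Type v} [Field K] {n : ℕ}
    (hP : PB.{v} n) (hA : Odd (Nat.card A)) {Z E : Subgroup A} [Z.Normal] (hx : Extra Z E)
    (hmax : MaxAb Z) (ι : Z →* K) (hι : Function.Injective ι) (hn : Z.relIndex E ≤ n)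
    (h9 : 9 ≤ Z.relIndex E) :
    8 * E.relIndex (Subgroup.centralizer (Z : Set A)) ≤ Z.relIndex E * Z.relIndex E ∧
      (Z.relIndex E = 9 → E.relIndex (Subgroup.centralizer (Z : Set A)) = 1) ∧
      (Z.relIndex E = 81 → E.relIndex (Subgroup.centralizer (Z : Set A)) ≤ 39) := by
  classical
  haveI := hx.normal
  let π := QuotientGroup.mk' Z
  obtain ⟨T, hT⟩ : ∃ T : Subgroup (A ⧸ Z), T = E.map π := ⟨_, rfl⟩
  haveI hTn : T.Normal := hT ▸ hx.normal.map π (QuotientGroup.mk'_surjective Z)
  have hTcard : Nat.card T = Z.relIndex E := by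
    rw [hT, ← Subgroup.relIndex_ker, QuotientGroup.ker_mk']
  have hTE : ∀ g : A, π g ∈ T ↔ g ∈ E := by
    intro g
    refine ⟨fun h => ?_, fun h => hT ▸ ⟨g, h, rfl⟩⟩
    rw [hT] at h
    obtain ⟨e, he, h⟩ := h
    have h1 : e⁻¹ * g ∈ Z := QuotientGroup.eq.1 h
    simpa using E.mul_mem he (hx.le h1)
  letI : CommGroup T :=
    { (inferInstance : Group T) with
      mul_comm := fun a b => by
        obtain ⟨x, hx0⟩ := QuotientGroup.mk'_surjective Z (a : A ⧸ Z)
        obtain ⟨y, hy0⟩ := QuotientGroup.mk'_surjective Z (b : A ⧸ Z)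
        have h1 : π (x * y * x⁻¹ * y⁻¹) = 1 := (QuotientGroup.eq_one_iff _).2
          (hx.inZ x ((hTE x).1 (hx0 ▸ a.2)) y ((hTE y).1 (hy0 ▸ b.2)))
        rw [map_mul, map_mul, map_mul, map_inv, map_inv, mul_inv_eq_one, mul_inv_eq_iff_eq_mul,
          show π x = (a : A ⧸ Z) from hx0, show π y = (b : A ⧸ Z) from hy0] at h1
        exact Subtype.ext h1 }
  letI : MulDistribMulAction A T :=
    { smul := fun g t => ⟨π g * t * (π g)⁻¹, hTn.conj_mem t t.2 (π g)⟩
      one_smul := fun t => Subtype.ext (show π 1 * t * (π 1)⁻¹ = t by simp)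
      mul_smul := fun g h t => Subtype.ext
        (show π (g * h) * t * (π (g * h))⁻¹ = π g * (π h * t * (π h)⁻¹) * (π g)⁻¹ by
          rw [map_mul]; group)
      smul_mul := fun g s t => Subtype.ext
        (show π g * ((s * t : T) : A ⧸ Z) * (π g)⁻¹ = (π g * s * (π g)⁻¹) * (π g * t * (π g)⁻¹) by
          rw [Subgroup.coe_mul]; group)
      smul_one := fun g => Subtype.ext (show π g * ((1 : T) : A ⧸ Z) * (π g)⁻¹ = 1 by simp) }
  letI : DistribMulAction A (Additive T) :=
    { smul := fun g t => Additive.ofMul (g • Additive.toMul t)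
      one_smul := fun t => congrArg Additive.ofMul (one_smul A (Additive.toMul t))
      mul_smul := fun g h t => congrArg Additive.ofMul (mul_smul g h (Additive.toMul t))
      smul_zero := fun g => congrArg Additive.ofMul (smul_one g)
      smul_add := fun g s t => congrArg Additive.ofMul (smul_mul' g (Additive.toMul s) (Additive.toMul t)) }
  haveI : Finite (Additive T) := (inferInstance : Finite T)
  have hcr : CR A (Additive T) := by
    intro U hU
    let N : Subgroup A :=
      { carrier := {g | ∃ h : π g ∈ T, Additive.ofMul (⟨π g, h⟩ : T) ∈ U}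
        one_mem' := ⟨by rw [map_one]; exact T.one_mem, by
          convert U.zero_mem using 1
          exact congrArg Additive.ofMul (Subtype.ext (map_one π))⟩
        mul_mem' := fun {a b} ⟨ha, ha'⟩ ⟨hb, hb'⟩ => ⟨by rw [map_mul]; exact T.mul_mem ha hb, by
          convert U.add_mem ha' hb' using 1
          exact congrArg Additive.ofMul (Subtype.ext (map_mul π a b))⟩
        inv_mem' := fun {a} ⟨ha, ha'⟩ => ⟨by rw [map_inv]; exact T.inv_mem ha, by
          convert U.neg_mem ha' using 1
          exact congrArg Additive.ofMul (Subtype.ext (map_inv π a))⟩ }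
    haveI : N.Normal := ⟨fun x hxN g => by
      obtain ⟨h, h'⟩ := hxN
      refine ⟨by rw [map_mul, map_mul, map_inv]; exact hTn.conj_mem _ h (π g), ?_⟩
      convert hU g _ h' using 1
      exact congrArg Additive.ofMul (Subtype.ext
        (show π (g * x * g⁻¹) = π g * π x * (π g)⁻¹ by rw [map_mul, map_mul, map_inv]))⟩
    have hNE : N ≤ E := fun g hg => (hTE g).1 hg.1
    have hZN : Z ≤ N := fun z hz => by
      have h1 : π z = 1 := (QuotientGroup.eq_one_iff z).2 hz
      refine ⟨h1 ▸ T.one_mem, ?_⟩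
      convert U.zero_mem using 1
      exact congrArg Additive.ofMul (Subtype.ext h1)
    obtain ⟨R, hR, hZR, hRE, hint, hsup⟩ := hx.complement hmax ι hι hZN hNE
    let Rt : Subgroup T := (R.map π).subgroupOf T
    refine ⟨Subgroup.toAddSubgroup Rt, fun g t ht => ?_, ?_, ?_⟩
    · obtain ⟨r, hr, he⟩ := ht
      exact ⟨g * r * g⁻¹, hR.conj_mem r hr g, show π (g * r * g⁻¹) = _ by
        rw [map_mul, map_mul, map_inv, show π r = _ from he]; rfl⟩
    · refine (AddSubgroup.eq_bot_iff_forall _).2 fun t ht => ?_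
      obtain ⟨ht1, r, hr, he⟩ := ht
      have hrN : r ∈ N := by
        have h2 : Additive.ofMul (⟨π r, (hTE r).2 (hRE hr)⟩ : T) = t :=
          congrArg Additive.ofMul (Subtype.ext he : (⟨π r, (hTE r).2 (hRE hr)⟩ : T) = Additive.toMul t)
        exact ⟨(hTE r).2 (hRE hr), (congrArg (fun z => z ∈ U) h2).mpr ht1⟩
      refine congrArg Additive.ofMul (Subtype.ext ?_ : Additive.toMul t = 1)
      exact he.symm.trans ((QuotientGroup.eq_one_iff r).2 (hint ⟨hrN, hr⟩))
    · refine eq_top_iff.2 fun t _ => ?_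
      obtain ⟨e, he⟩ := QuotientGroup.mk'_surjective Z ((Additive.toMul t : T) : A ⧸ Z)
      have he' : e ∈ ((N ⊔ R : Subgroup A) : Set A) :=
        hsup ((hTE e).1 (he ▸ (Additive.toMul t).2))
      haveI := hR
      rw [Subgroup.mul_normal, Set.mem_mul] at he'
      obtain ⟨a, ha, r, hr, rfl⟩ := he'
      refine AddSubgroup.mem_sup.2 ⟨_, ha.2, Additive.ofMul ⟨π r, (hTE r).2 (hRE hr)⟩, ⟨r, hr, rfl⟩, ?_⟩
      refine congrArg Additive.ofMul (Subtype.ext ?_ : (_ : T) = Additive.toMul t)
      show π a * π r = _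
      rw [← map_mul]; exact he
  obtain ⟨C, hC⟩ : ∃ C, C = Subgroup.centralizer (Z : Set A) := ⟨_, rfl⟩
  have hker : kerV A (Additive T) ⊓ C = E := by
    refine le_antisymm (fun c hc => hx.outside c (hC ▸ hc.2) fun e he => ?_) (le_inf (fun c hc t => ?_) (hC ▸ hx.le_centralizer))
    · have h1 : π c * π e * (π c)⁻¹ = π e :=
        congrArg (fun s : Additive T => ((Additive.toMul s : T) : A ⧸ Z))
          (hc.1 (Additive.ofMul ⟨π e, (hTE e).2 he⟩))
      rw [← QuotientGroup.eq_one_iff]
      show π (c * e * c⁻¹ * e⁻¹) = 1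
      rw [map_mul, map_mul, map_mul, map_inv, map_inv, h1, mul_inv_cancel]
    · obtain ⟨e, he⟩ := QuotientGroup.mk'_surjective Z ((Additive.toMul t : T) : A ⧸ Z)
      have h1 : π (c * e * c⁻¹ * e⁻¹) = 1 := (QuotientGroup.eq_one_iff _).2
        (hx.inZ c hc e ((hTE e).1 (he ▸ (Additive.toMul t).2)))
      refine congrArg Additive.ofMul (Subtype.ext ?_ : c • Additive.toMul t = Additive.toMul t)
      show π c * _ * (π c)⁻¹ = _
      rw [← he]
      rw [map_mul, map_mul, map_mul, map_inv, map_inv, mul_inv_eq_one] at h1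
      exact h1
  have hdvd : E.relIndex C ≤ (kerV A (Additive T)).index := by
    rw [← hker, Subgroup.inf_relIndex_right]
    exact Nat.le_of_dvd (Nat.pos_of_ne_zero Subgroup.index_ne_zero_of_finite)
      (Subgroup.relIndex_dvd_index_of_normal _ _)
  rw [← hC]
  have hcard : Nat.card (Additive T) = Z.relIndex E := hTcard
  have hodd : Odd (Nat.card (Additive T)) := by
    rw [show Nat.card (Additive T) = Nat.card T from rfl, hT, ← Subgroup.relIndex_ker,
      QuotientGroup.ker_mk']
    exact hA.of_dvd_nat ((Subgroup.relIndex_dvd_card Z E).trans (Subgroup.card_subgroup_dvd_card E))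
  have hB := hP A (Additive T) hA hcr (hcard ▸ hn)
  have h8 := eight_index_le hA hodd (hcard.symm ▸ (by omega : 8 ≤ Z.relIndex E)) hB
  rw [hcard] at h8
  refine ⟨le_trans (by omega) h8, fun h => ?_, fun h => ?_⟩
  · have h1 := (small_index hA hcr (by rw [hcard, h]; simp)).2 (hcard.trans h)
    have h2 : 0 < E.relIndex C := Nat.pos_of_ne_zero Subgroup.index_ne_zero_of_finite
    omega
  · exact hdvd.trans (small_index hA hcr (by rw [hcard, h]; simp)).1

end Cfsg.Agent.Solv.OddPair
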