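import Cfsg.Agent.Lib.Solv.OddPair.Fixed
import Cfsg.Agent.Lib.Solv.OddPair.Layer

/-!
The quasi-primitive case.
-/

set_option autoImplicit false
set_option linter.unusedSectionVars false
set_option linter.style.haveILetI false
set_option maxHeartbeats 1600000

namespace Cfsg.Agent.Solv.OddPair

universe u v

/-- The automorphism group of a finite field is no larger than its degree. -/
theorem ringAut_card_le (K : Type v) [Field K] [Finite K] :
    ∃ p f : ℕ, p.Prime ∧ Nat.card K = p ^ f ∧ Nat.card (K ≃+* K) ≤ f := by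
  classical
  haveI := Fintype.ofFinite K
  obtain ⟨p, hchar⟩ := CharP.exists K
  haveI := hchar
  obtain ⟨e, hp, he⟩ := FiniteField.card K p
  haveI := Fact.mk hp
  letI : Algebra (ZMod p) K := ZMod.algebra K p
  refine ⟨p, Module.finrank (ZMod p) K, hp, ?_, ?_⟩
  · rw [Module.natCard_eq_pow_finrank (K := ZMod p), Nat.card_zmod]
  · let up : (K ≃+* K) → (K ≃ₐ[ZMod p] K) := fun σ => AlgEquiv.ofRingEquiv (f := σ) fun x =>
      RingHom.congr_fun (Subsingleton.elim ((σ : K →+* K).comp (algebraMap (ZMod p) K))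
        (algebraMap (ZMod p) K)) x
    have hup : Function.Injective up := fun σ σ' h => RingEquiv.ext fun x =>
      (DFunLike.congr_fun h x : up σ x = up σ' x)
    refine (Nat.card_le_card_of_injective up hup).trans ?_
    rw [Nat.card_eq_fintype_card]
    exact AlgEquiv.card_le

/-- A module all of whose normal abelian subgroups generate fields has a base of size two. -/
theorem primitive {A V : Type v} [Group A] [Finite A] [AddCommGroup V] [Finite V] [Nontrivial V]
    [DistribMulAction A V] {n : ℕ} (hP : PB.{v} n) (hn : Nat.card V ≤ n + 1) (hA : Odd (Nat.card A))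
    (hf : ∀ a : A, (∀ x : V, a • x = x) → a = 1)
    (hfield : ∀ N : Subgroup A, N.Normal → (∀ x ∈ N, ∀ y ∈ N, Commute x y) →
      ∀ b ∈ imgRing V N, ∀ x : V, x ≠ 0 → b x = 0 → b = 0) : Base A V := by
  classical
  by_contra hno
  let P : Subgroup A → Prop := fun N => N.Normal ∧ ∀ x ∈ N, ∀ y ∈ N, Commute x y
  obtain ⟨Z, -, hZmax⟩ := (Set.toFinite {N | P N}).exists_le_maximal (a := ⊥)
    (show P ⊥ from ⟨inferInstance, fun x hx y _ => by rw [Subgroup.mem_bot.1 hx]; exact Commute.one_left y⟩)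
  obtain ⟨hZn, hZc⟩ := hZmax.prop
  haveI := hZn
  have hmax : MaxAb Z := fun N hN hNc hle => hZmax.2 (show P N from ⟨hN, hNc⟩) hle
  -- the field
  let τ := DistribMulAction.toAddMonoidEnd A V
  let R := imgRing V Z
  obtain ⟨v0, hv0⟩ := exists_ne (0 : V)
  haveI : Finite (AddMonoid.End V) := Finite.of_injective (fun f : AddMonoid.End V => (f : V → V))
    DFunLike.coe_injective
  haveI : Nontrivial R := ⟨⟨0, 1, fun h => hv0
    ((DFunLike.congr_fun (congrArg Subtype.val h) v0 : (0 : V) = v0).symm)⟩⟩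
  letI : CommRing R :=
    { (inferInstance : Ring R) with
      mul_comm := fun a b => Subtype.ext (imgRing_comm hZc (a : AddMonoid.End V) a.2 (b : AddMonoid.End V) b.2 :) }
  haveI : NoZeroDivisors R := ⟨fun {a b} hab => by
    by_cases hb : b = 0
    · exact Or.inr hb
    left
    obtain ⟨x, hx⟩ : ∃ x, (b : AddMonoid.End V) x ≠ 0 := by
      by_contra h
      push Not at h
      exact hb (Subtype.ext (DFunLike.ext _ _ h))
    exact Subtype.ext (hfield Z hZn hZc a a.2 _ hx (DFunLike.congr_fun (congrArg Subtype.val hab) x))⟩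
  haveI : IsDomain R := NoZeroDivisors.to_isDomain R
  letI : Fintype R := Fintype.ofFinite R
  letI : Field R := Fintype.fieldOfDomain R
  let ι : Z →* R :=
    { toFun := fun z => ⟨τ z, mem_imgRing z.2⟩
      map_one' := Subtype.ext (map_one τ)
      map_mul' := fun a b => Subtype.ext (map_mul τ (a : A) b) }
  have hιsmul : ∀ (z : Z) (x : V), ι z • x = (z : A) • x := fun z x => rfl
  have hι : Function.Injective ι := fun a b h => by
    have h1 : ∀ x : V, (a : A) • x = (b : A) • x := fun x => by rw [← hιsmul, ← hιsmul, h]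
    exact Subtype.ext (inv_mul_eq_one.1 (hf ((b : A)⁻¹ * a) fun x => by
      rw [mul_smul, h1, inv_smul_smul])).symm
  have hι0 : ∀ z, ι z ≠ 0 := fun z h => by
    have h1 := hιsmul z v0
    rw [h, zero_smul] at h1
    exact hv0 ((smul_eq_zero_iff_eq (z : A)).1 h1.symm)
  have hfree : ∀ (z : Z) (x : V), x ≠ 0 → (z : A) • x = x → z = 1 := by
    intro z x hx hzx
    refine hι ?_
    rw [map_one]
    by_contra hne
    have h1 : (ι z - 1) • x = 0 := by rw [sub_smul, one_smul, hιsmul, hzx, sub_self]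
    exact hx ((smul_eq_zero.1 h1).resolve_left (sub_ne_zero.2 hne))
  obtain ⟨C, hCdef⟩ : ∃ C, C = Subgroup.centralizer (Z : Set A) := ⟨_, rfl⟩
  have hZC : Z ≤ C := hCdef ▸ fun x hx => Subgroup.mem_centralizer_iff.2 fun y hy => (hZc y hy x hx).eq
  haveI : C.Normal := hCdef ▸ inferInstance
  have hCc : ∀ g ∈ C, ∀ z ∈ Z, z * g = g * z := fun g hg z hz => by
    rw [hCdef] at hg
    exact Subgroup.mem_centralizer_iff.1 hg z hz
  -- the centraliser is not abelian
  by_cases hCZ : C ≤ Z
  · haveI : IsCyclic Z := isCyclic_of_subgroup_isDomain ι hι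
    obtain ⟨z, hz⟩ := IsCyclic.exists_generator (α := Z)
    refine hno ⟨v0, (z : A) • v0, fun g hg1 hg2 => ?_⟩
    let w : Z := ⟨(z : A)⁻¹ * (g * z * g⁻¹), Z.mul_mem (Z.inv_mem z.2) (hZn.conj_mem z z.2 g)⟩
    have hw : w = 1 := hfree w v0 hv0 (by
      show ((z : A)⁻¹ * (g * z * g⁻¹)) • v0 = v0
      rw [mul_smul, mul_smul, mul_smul, inv_smul_eq_iff.2 hg1.symm, hg2, inv_smul_smul])
    have hgz : g * (z : A) = z * g := by
      have h1 : (z : A)⁻¹ * (g * z * g⁻¹) = 1 := congrArg Subtype.val hw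
      rw [inv_mul_eq_one] at h1
      nth_rewrite 2 [h1]
      rw [inv_mul_cancel_right]
    have hgC : g ∈ C := hCdef ▸ Subgroup.mem_centralizer_iff.2 fun y hy => by
      obtain ⟨i, hi⟩ := Subgroup.mem_zpowers_iff.1 (hz ⟨y, hy⟩)
      have h1 : (z : A) ^ i = y := by rw [← SubgroupClass.coe_zpow, hi]
      rw [← h1]
      exact ((show Commute g (z : A) from hgz).zpow_right i).eq.symm
    intro x
    rw [show g = 1 from congrArg Subtype.val (hfree ⟨g, hCZ hgC⟩ v0 hv0 hg1), one_smul]
  have hsol : Group.IsSolvable A := Cfsg.Agent.S0205.result hA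
  obtain ⟨E, hx, hEZ⟩ := exists_extra hsol hZc hmax ι hι (hCdef ▸ hCZ)
  haveI := hx.normal
  have hEC : E ≤ C := hCdef ▸ hx.le_centralizer
  obtain ⟨s, hs⟩ := hx.exists_sq ι hι
  have hsodd : Odd s := by
    have h1 : Odd (s * s) := hs ▸ hA.of_dvd_nat
      ((Subgroup.relIndex_dvd_card Z E).trans (Subgroup.card_subgroup_dvd_card E))
    exact (Nat.odd_mul.1 h1).1
  have hs3 : 3 ≤ s := by
    obtain ⟨t, ht⟩ := hsodd
    have hne : s ≠ 1 := fun h => hEZ (Subgroup.relIndex_eq_one.1 (by rw [hs, h]))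
    omega
  -- the primes of `s`
  have hdiv : ∀ l, l.Prime → l ∣ s → l ∣ Fintype.card R - 1 := by
    intro l hl hls
    haveI := Fact.mk hl
    have hcard : l ∣ Nat.card (E ⧸ Z.subgroupOf E) := by
      rw [← Subgroup.index_eq_card]
      show l ∣ Z.relIndex E
      rw [hs]
      exact hls.mul_right s
    obtain ⟨x', hx'⟩ := exists_prime_orderOf_dvd_card' l hcard
    obtain ⟨x, rfl⟩ := QuotientGroup.mk_surjective x'
    have hxZ : (x : A) ∉ Z := fun h => by
      rw [(QuotientGroup.eq_one_iff x).2 (show x ∈ Z.subgroupOf E from h), orderOf_one] at hx'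
      exact hl.ne_one hx'.symm
    have hxl : (x : A) ^ l ∈ Z := by
      have h1 : ((x : E) : E ⧸ Z.subgroupOf E) ^ l = 1 := by rw [← hx', pow_orderOf_eq_one]
      rw [← QuotientGroup.mk_pow, QuotientGroup.eq_one_iff] at h1
      exact h1
    obtain ⟨y, hy, hxy⟩ : ∃ y ∈ E, ¬Commute (x : A) y := by
      by_contra h
      push Not at h
      exact hxZ (hx.center_le x x.2 h)
    let χ := chi ι E hx.le_centralizer y fun m hm => hx.inZ y hy m hm
    have hne : χ x ≠ 1 := fun h => hxy (by
      rw [chi_apply, ← map_one ι] at h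
      have h1 : y * x * y⁻¹ * (x : A)⁻¹ = 1 := congrArg Subtype.val (hι h)
      rw [mul_inv_eq_one, mul_inv_eq_iff_eq_mul] at h1
      exact h1.symm)
    have hpow : χ x ^ l = 1 := by
      rw [← map_pow, chi_apply, ← map_one ι]
      refine congrArg ι (Subtype.ext ?_)
      show y * ((x ^ l : E) : A) * y⁻¹ * ((x ^ l : E) : A)⁻¹ = 1
      rw [SubgroupClass.coe_pow,
        ← Subgroup.mem_centralizer_iff.1 (hx.le_centralizer hy) _ hxl]
      group
    have hord : orderOf (χ x) = l := orderOf_eq_prime hpow hne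
    rw [← hord]
    refine orderOf_dvd_of_pow_eq_one (FiniteField.pow_card_sub_one_eq_one _ ?_)
    rw [chi_apply]
    exact hι0 _
  obtain ⟨q, hqdef⟩ : ∃ q, q = Fintype.card R := ⟨_, rfl⟩
  have hqpp : IsPrimePow q := hqdef ▸ FiniteField.isPrimePow_card R
  have hq4 : 4 ≤ q := by
    obtain ⟨l, hl, hls⟩ := Nat.exists_prime_and_dvd (show s ≠ 1 by omega)
    obtain ⟨t, ht⟩ := hsodd.of_dvd_nat hls
    have h1 := hl.two_le
    have h2 := hqpp.two_le
    have h3 := Nat.le_of_dvd (by omega) (hqdef ▸ hdiv l hl hls)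
    omega
  obtain ⟨d, hddef⟩ : ∃ d, d = Module.finrank R V := ⟨_, rfl⟩
  haveI : FiniteDimensional R V := inferInstance
  have hV : Nat.card V = q ^ d := by
    rw [Module.natCard_eq_pow_finrank (K := R), Nat.card_eq_fintype_card, hqdef, hddef]
  -- linearity of the centraliser
  have hlin : ∀ g ∈ C, ∀ (k : R) (x : V), g • k • x = k • g • x := by
    intro g hg k x
    have h1 : imgRing V Z ≤ Subring.centralizer {τ g} := by
      rw [imgRing, Subring.closure_le]
      rintro _ ⟨z, hz, rfl⟩
      refine Subring.mem_centralizer_iff.2 fun t ht => ?_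
      rw [Set.mem_singleton_iff.1 ht, ← map_mul, ← map_mul,
        ← Subgroup.mem_centralizer_iff.1 (hCdef ▸ hg) z hz]
    exact DFunLike.congr_fun (Subring.mem_centralizer_iff.1 (h1 k.2) (τ g) rfl) x
  let L : C → Module.End R V := fun g =>
    { toFun := fun x => (g : A) • x
      map_add' := fun x y => smul_add (g : A) x y
      map_smul' := fun k x => hlin g g.2 k x }
  let cd : C → ℕ := fun g => Module.finrank R ((L g).eigenspace 1)
  have hcd : ∀ g : C, fx V (g : A) = q ^ cd g := by
    intro g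
    rw [hqdef, ← Nat.card_eq_fintype_card, ← Module.natCard_eq_pow_finrank (K := R)]
    refine Nat.card_congr (Equiv.subtypeEquivRight fun x => ?_)
    rw [Module.End.mem_eigenspace_iff, one_smul]
    rfl
  have heig : ∀ (g : C) (z : Z) (h : C), (h : A) = g * z →
      (L h).eigenspace 1 = (L g).eigenspace (ι z)⁻¹ := by
    intro g z h hh
    ext x
    rw [Module.End.mem_eigenspace_iff, Module.End.mem_eigenspace_iff, one_smul]
    show (h : A) • x = x ↔ (g : A) • x = (ι z)⁻¹ • x
    rw [hh, mul_smul, ← hιsmul, hlin g g.2, eq_inv_smul_iff₀ (hι0 z)]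
  -- `m ≤ d²`
  have hsd : s ≤ d := by
    let t : E ⧸ Z.subgroupOf E → C := fun i => ⟨(i.out : E), hEC (i.out).2⟩
    let χ : E ⧸ Z.subgroupOf E → E →* R := fun i =>
      chi ι E hx.le_centralizer (t i : A) fun m hm => hx.inZ _ (i.out).2 m hm
    have hχ : Function.Injective χ := by
      intro i j hij
      rw [← QuotientGroup.out_eq' i, ← QuotientGroup.out_eq' j]
      refine QuotientGroup.eq.2 (hx.center_le _ (E.mul_mem (E.inv_mem i.out.2) j.out.2) fun m hm => ?_)
      have h1 := DFunLike.congr_fun hij ⟨m, hm⟩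
      rw [chi_apply, chi_apply] at h1
      have h2 : (t i : A) * m * (t i : A)⁻¹ = (t j : A) * m * (t j : A)⁻¹ :=
        mul_right_cancel (congrArg Subtype.val (hι h1))
      show (t i : A)⁻¹ * (t j : A) * m = m * ((t i : A)⁻¹ * (t j : A))
      calc (t i : A)⁻¹ * (t j : A) * m
          = (t i : A)⁻¹ * ((t j : A) * m * (t j : A)⁻¹) * (t j : A) := by group
        _ = (t i : A)⁻¹ * ((t i : A) * m * (t i : A)⁻¹) * (t j : A) := by rw [h2]
        _ = m * ((t i : A)⁻¹ * (t j : A)) := by group
    let Lc : E → Module.End R V →ₗ[R] Module.End R V := fun h =>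
      { toFun := fun T => L ⟨(h : A)⁻¹, C.inv_mem (hEC h.2)⟩ * T * L ⟨(h : A), hEC h.2⟩
        map_add' := fun S T => by rw [mul_add, add_mul]
        map_smul' := fun k T => by rw [RingHom.id_apply, mul_smul_comm, smul_mul_assoc] }
    haveI := Fintype.ofFinite (E ⧸ Z.subgroupOf E)
    have hLI := eigvec_indep χ hχ Lc (fun i => L (t i))
      (fun i h => hv0 ((smul_eq_zero_iff_eq (t i : A)).1 (LinearMap.congr_fun h v0)))
      (fun h i => by
        refine LinearMap.ext fun x => ?_
        show (h : A)⁻¹ • (t i : A) • (h : A) • x =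
          ι ⟨(t i : A) * h * (t i : A)⁻¹ * (h : A)⁻¹, _⟩ • (t i : A) • x
        rw [hιsmul, ← mul_smul, ← mul_smul, ← mul_smul]
        congr 1
        obtain ⟨w, hw⟩ : ∃ w, w = (t i : A) * h * (t i : A)⁻¹ * (h : A)⁻¹ := ⟨_, rfl⟩
        have hwZ : w ∈ Z := hw ▸ hx.inZ _ (i.out).2 h h.2
        have h1 := Subgroup.mem_centralizer_iff.1 (hx.le_centralizer (E.inv_mem h.2)) w hwZ
        show (h : A)⁻¹ * (t i : A) * h = (t i : A) * h * (t i : A)⁻¹ * (h : A)⁻¹ * (t i : A)
        rw [← hw]
        calc (h : A)⁻¹ * (t i : A) * h = (h : A)⁻¹ * w * h * (t i : A) := by rw [hw]; group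
          _ = w * (t i : A) := by rw [← h1, inv_mul_cancel_right])
    have h1 := hLI.fintype_card_le_finrank
    rw [Module.finrank_linearMap, ← hddef, ← Nat.card_eq_fintype_card, ← Subgroup.index_eq_card,
      ← Subgroup.relIndex, hs] at h1
    exact Nat.mul_self_le_mul_self_iff.1 h1
  -- the bounds on the layer
  have hmn : Z.relIndex E ≤ n := by
    have h1 : d * d < q ^ d :=
      calc d * d < 2 ^ d * 2 ^ d := Nat.mul_lt_mul'' Nat.lt_two_pow_self Nat.lt_two_pow_self
        _ = 4 ^ d := by rw [← mul_pow]; rfl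
        _ ≤ q ^ d := Nat.pow_le_pow_left hq4 d
    have h2 := Nat.mul_le_mul hsd hsd
    rw [hs]
    omega
  obtain ⟨G, hG⟩ : ∃ G, G = E.relIndex C := ⟨_, rfl⟩
  obtain ⟨hb8, hb9, hb81⟩ := hx.bounds hP hA hmax ι hι hmn
    (by rw [hs]; exact Nat.mul_le_mul hs3 hs3)
  rw [← hCdef, ← hG, hs] at hb8 hb9 hb81
  have hpar : Params s G q :=
    ⟨hsodd, hs3, hqpp, hqdef ▸ hdiv, hb8, fun h => hb9 (by rw [h]), fun h => hb81 (by rw [h])⟩
  -- fixed points
  have hd3 : 3 ≤ d := hs3.trans hsd
  have hq2 : 2 ≤ q := by omega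
  have hcE : ∀ g : C, (g : A) ∈ E → (g : A) ∉ Z → 3 * cd g ≤ d := by
    intro g hgE hgZ
    obtain ⟨y, hy, hgy⟩ : ∃ y ∈ E, ¬Commute (g : A) y := by
      by_contra h
      push Not at h
      exact hgZ (hx.center_le _ hgE h)
    let w : Z := ⟨y * g * y⁻¹ * (g : A)⁻¹, hx.inZ y hy _ hgE⟩
    have hw1 : w ≠ 1 := fun h => hgy (by
      have h1 : y * g * y⁻¹ * (g : A)⁻¹ = 1 := congrArg Subtype.val h
      rw [mul_inv_eq_one, mul_inv_eq_iff_eq_mul] at h1
      exact h1.symm)
    have hw2 : w * w ≠ 1 := fun h => hw1 (by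
      obtain ⟨m, hm⟩ := exists_sq_pow (hA.of_dvd_nat (Subgroup.card_subgroup_dvd_card Z)) w
      rw [← hm, h, one_pow])
    have hgw : ∀ z : Z, (g : A) * z = z * g := fun z =>
      (hCc g g.2 z z.2).symm
    have hyw : ∀ z : Z, y * (z : A) * y⁻¹ = z := fun z => by
      rw [← Subgroup.mem_centralizer_iff.1 (hx.le_centralizer hy) z z.2, mul_inv_cancel_right]
    have e1 : y * g * y⁻¹ = (g : A) * (w : A) := by
      rw [hgw w]; show y * g * y⁻¹ = y * g * y⁻¹ * (g : A)⁻¹ * g
      rw [inv_mul_cancel_right]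
    have e2 : y * (y * g * y⁻¹) * y⁻¹ = (g : A) * ((w * w : Z) : A) :=
      calc y * (y * g * y⁻¹) * y⁻¹ = y * ((g : A) * (w : A)) * y⁻¹ := by rw [e1]
        _ = (y * g * y⁻¹) * (y * (w : A) * y⁻¹) := by group
        _ = (g : A) * ((w * w : Z) : A) := by rw [hyw w, e1, Subgroup.coe_mul, mul_assoc]
    let μ : Fin 3 → Z := ![1, w, w * w]
    have hμ : Function.Injective fun i => (ι (μ i))⁻¹ := by
      intro i j h
      have h' := hι (inv_inj.1 h)
      fin_cases i <;> fin_cases j <;> first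
        | rfl
        | (simp [μ] at h'; first
          | exact absurd h' hw1
          | exact absurd h'.symm hw1
          | exact absurd h' hw2
          | exact absurd h'.symm hw2)
    have hsum := sum_eigen_le (L g) Finset.univ _ hμ
    have heq : ∀ i, Module.finrank R ((L g).eigenspace (ι (μ i))⁻¹) = cd g := by
      intro i
      let h : C := ⟨(g : A) * (μ i : A), C.mul_mem g.2 (hZC (μ i).2)⟩
      rw [← heig g (μ i) h rfl]
      refine Nat.pow_right_injective hq2 ?_
      show q ^ cd h = q ^ cd g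
      rw [← hcd, ← hcd]
      fin_cases i
      · show fx V ((g : A) * ((1 : Z) : A)) = fx V (g : A)
        rw [OneMemClass.coe_one, mul_one]
      · show fx V ((g : A) * (w : A)) = fx V (g : A)
        rw [← e1, fx_conj]
      · show fx V ((g : A) * ((w * w : Z) : A)) = fx V (g : A)
        rw [← e2, fx_conj, fx_conj]
    rw [Finset.sum_congr rfl fun i _ => heq i, Finset.sum_const, Finset.card_univ, Fintype.card_fin,
      smul_eq_mul, ← hddef] at hsum
    exact hsum
  have hcC : ∀ g : C, (g : A) ∉ Z → 3 * cd g ≤ 2 * d := by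
    intro g hgZ
    by_cases hgE : (g : A) ∈ E
    · have := hcE g hgE hgZ; omega
    obtain ⟨h, hh, hu⟩ : ∃ h ∈ E, (g : A) * h * (g : A)⁻¹ * h⁻¹ ∉ Z := by
      by_contra h
      push Not at h
      exact hgE (hx.outside g (hCdef ▸ g.2) h)
    have huE : h⁻¹ * g * h * (g : A)⁻¹ ∈ E := by
      have := E.mul_mem (E.inv_mem hh) (hx.normal.conj_mem h hh g)
      simpa [mul_assoc] using this
    have huZ : h⁻¹ * g * h * (g : A)⁻¹ ∉ Z := fun hz => hu (by
      have := hZn.conj_mem _ hz h
      simpa [mul_assoc] using this)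
    have h1 := hcE ⟨_, hEC huE⟩ huE huZ
    have h2 := sq_fx_le (V := V) (g : A) h
    rw [show h⁻¹ * g * h * (g : A)⁻¹ = ((⟨_, hEC huE⟩ : C) : A) from rfl, hcd, hcd, hV, ← pow_mul,
      ← pow_add] at h2
    have h3 := (Nat.pow_le_pow_iff_right (by omega)).1 h2
    omega
  have hout : ∀ g : A, g ∉ C → fx V g ^ 2 ≤ q ^ d := by
    intro g hg
    obtain ⟨z, hz, hzg⟩ : ∃ z ∈ Z, z * g ≠ g * z := by
      by_contra h
      push Not at h
      exact hg (hCdef ▸ Subgroup.mem_centralizer_iff.2 h)
    have huZ : z⁻¹ * g * z * g⁻¹ ∈ Z := by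
      have := Z.mul_mem (Z.inv_mem hz) (hZn.conj_mem z hz g)
      simpa [mul_assoc] using this
    have hu1 : fx V (z⁻¹ * g * z * g⁻¹) = 1 := by
      refine Nat.card_eq_one_iff_unique.2 ⟨⟨fun a b => ?_⟩, ⟨0⟩⟩
      have key : ∀ a : fixV V (z⁻¹ * g * z * g⁻¹), (a : V) = 0 := fun a => by
        by_contra ha
        have h1 : z⁻¹ * g * z * g⁻¹ = 1 := congrArg Subtype.val (hfree ⟨_, huZ⟩ _ ha a.2)
        rw [mul_inv_eq_one, mul_assoc, inv_mul_eq_iff_eq_mul] at h1
        exact hzg h1.symm
      exact Subtype.ext ((key a).trans (key b).symm)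
    have h2 := sq_fx_le (V := V) g z
    rw [hu1, mul_one, hV] at h2
    exact h2
  -- the count
  haveI := Fintype.ofFinite A
  have hpairs := pairs_le hA hf hno
  rw [hV] at hpairs
  let φ : A → ℕ := fun g => if g = 1 then 0 else fx V g ^ 2 - 1
  have hφ : ∑ g ∈ Finset.univ.erase (1 : A), (fx V g ^ 2 - 1) = ∑ g, φ g := by
    rw [← Finset.add_sum_erase _ φ (Finset.mem_univ 1), show φ 1 = 0 from if_pos rfl, zero_add]
    exact Finset.sum_congr rfl fun g hg => (if_neg (Finset.ne_of_mem_erase hg)).symm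
  rw [hφ, ← Finset.sum_filter_add_sum_filter_not Finset.univ (· ∈ C) φ] at hpairs
  obtain ⟨cm, hcm⟩ : ∃ cm, cm = 2 * d / 3 := ⟨_, rfl⟩
  haveI := Fintype.ofFinite (C ⧸ Z.subgroupOf C)
  have hcardC : Nat.card (C ⧸ Z.subgroupOf C) = s * s * G := by
    rw [← Subgroup.index_eq_card, ← Subgroup.relIndex, hG, ← hs,
      Subgroup.relIndex_mul_relIndex Z E C hx.le hEC]
  have hS : ∑ g ∈ Finset.univ.filter (· ∈ C), φ g ≤ 2 * (s * s * G) * q ^ (2 * cm) := by
    rw [Finset.sum_subtype (p := fun x => x ∈ C) _ (fun x => by simp) φ]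
    haveI := Fintype.ofFinite (Z.subgroupOf C)
    let bij : (C ⧸ Z.subgroupOf C) × Z.subgroupOf C → C := fun p => p.1.out * (p.2 : C)
    have hbij : Function.Bijective bij := by
      refine ⟨fun p p' h => ?_, fun g => ?_⟩
      · have h1 : p.1 = p'.1 := by
          rw [← QuotientGroup.out_eq' p.1, ← QuotientGroup.out_eq' p'.1,
            ← QuotientGroup.mk_mul_of_mem p.1.out p.2.2, ← QuotientGroup.mk_mul_of_mem p'.1.out p'.2.2]
          exact congrArg _ h
        refine Prod.ext h1 (Subtype.ext ?_)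
        change p.1.out * (p.2 : C) = p'.1.out * (p'.2 : C) at h
        rw [h1] at h
        exact mul_left_cancel h
      · exact ⟨((g : C ⧸ Z.subgroupOf C), ⟨(g : C ⧸ Z.subgroupOf C).out⁻¹ * g,
          QuotientGroup.eq.1 (QuotientGroup.out_eq' _)⟩), by simp [bij]⟩
    rw [← Fintype.sum_bijective bij hbij (fun p => φ (bij p : A)) (fun g => φ (g : A)) fun p => rfl,
      Fintype.sum_prod_type]
    have hone : ∀ i : C ⧸ Z.subgroupOf C,
        ∑ z : Z.subgroupOf C, φ (bij (i, z) : A) ≤ 2 * q ^ (2 * cm) := by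
      intro i
      by_cases hi : (i.out : A) ∈ Z
      · refine le_of_eq_of_le (Finset.sum_eq_zero fun z _ => ?_) (Nat.zero_le _)
        by_cases h1 : (bij (i, z) : A) = 1
        · exact if_pos h1
        · refine (if_neg h1).trans ?_
          have hmem : (bij (i, z) : A) ∈ Z := Z.mul_mem hi z.2
          have hfx : fx V (bij (i, z) : A) = 1 := by
            refine Nat.card_eq_one_iff_unique.2 ⟨⟨fun a b => ?_⟩, ⟨0⟩⟩
            have key : ∀ a : fixV V (bij (i, z) : A), (a : V) = 0 := fun a => by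
              by_contra ha
              exact h1 (congrArg Subtype.val (hfree ⟨_, hmem⟩ _ ha a.2))
            exact Subtype.ext ((key a).trans (key b).symm)
          rw [hfx]; norm_num
      · have hnZ : ∀ z : Z.subgroupOf C, (bij (i, z) : A) ∉ Z := fun z h => hi (by
          have h1 : (i.out : A) * ((z : C) : A) ∈ Z := h
          simpa using Z.mul_mem h1 (Z.inv_mem z.2))
        have hle : ∑ z : Z.subgroupOf C, cd (bij (i, z)) ≤ d := by
          rw [hddef]
          refine le_trans (le_of_eq (Finset.sum_congr rfl fun z _ => ?_))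
            (sum_eigen_le (L i.out) Finset.univ (fun z : Z.subgroupOf C => (ι ⟨((z : C) : A), z.2⟩)⁻¹)
              (fun z z' h => Subtype.ext (Subtype.ext (congrArg Subtype.val (hι (inv_inj.1 h)) :))))
          show Module.finrank R ((L (bij (i, z))).eigenspace 1) = _
          rw [heig i.out ⟨((z : C) : A), z.2⟩ (bij (i, z)) rfl]
        refine le_trans (Finset.sum_le_sum fun z _ => ?_)
          (sum_sq_pow_le (by omega) (fun z : Z.subgroupOf C => cd (bij (i, z))) hle
            (fun z => by have := hcC _ (hnZ z); omega) (by omega) (by omega))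
        rw [show φ (bij (i, z) : A) = fx V (bij (i, z) : A) ^ 2 - 1 from
          if_neg fun h : (bij (i, z) : A) = 1 => hnZ z (by rw [h]; exact Z.one_mem), hcd]
    refine (Finset.sum_le_sum fun i _ => hone i).trans (le_of_eq ?_)
    rw [Finset.sum_const, Finset.card_univ, ← Nat.card_eq_fintype_card, hcardC, smul_eq_mul]
    ring
  have hX : 4 * ∑ g ∈ Finset.univ.filter (fun g => ¬g ∈ C), φ g ≤ (q ^ d) ^ 2 := by
    by_cases htop : C = ⊤
    · rw [Finset.sum_eq_zero fun g hg =>
        absurd (htop ▸ Subgroup.mem_top g) (Finset.mem_filter.1 hg).2]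
      exact Nat.zero_le _
    let σ : A →* (R ≃+* R) :=
      { toFun := fun a =>
          { toFun := fun k => ⟨τ a * k * τ a⁻¹, imgRing_conj hZn a k.2⟩
            invFun := fun k => ⟨τ a⁻¹ * k * τ a, by
              have h := imgRing_conj hZn a⁻¹ k.2
              rwa [inv_inv] at h⟩
            left_inv := fun k => Subtype.ext (DFunLike.ext _ _ fun x =>
              show a⁻¹ • a • (k : AddMonoid.End V) (a⁻¹ • a • x) = (k : AddMonoid.End V) x by
                rw [inv_smul_smul, inv_smul_smul])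
            right_inv := fun k => Subtype.ext (DFunLike.ext _ _ fun x =>
              show a • a⁻¹ • (k : AddMonoid.End V) (a • a⁻¹ • x) = (k : AddMonoid.End V) x by
                rw [smul_inv_smul, smul_inv_smul])
            map_mul' := fun k k' => Subtype.ext (DFunLike.ext _ _ fun x =>
              show a • (k : AddMonoid.End V) ((k' : AddMonoid.End V) (a⁻¹ • x)) =
                  a • (k : AddMonoid.End V) (a⁻¹ • a • (k' : AddMonoid.End V) (a⁻¹ • x)) by
                rw [inv_smul_smul])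
            map_add' := fun k k' => Subtype.ext (DFunLike.ext _ _ fun x =>
              show a • ((k : AddMonoid.End V) (a⁻¹ • x) + (k' : AddMonoid.End V) (a⁻¹ • x)) =
                  a • (k : AddMonoid.End V) (a⁻¹ • x) + a • (k' : AddMonoid.End V) (a⁻¹ • x) from
                smul_add a _ _) }
        map_one' := RingEquiv.ext fun k => Subtype.ext (DFunLike.ext _ _ fun x =>
          show (1 : A) • (k : AddMonoid.End V) ((1 : A)⁻¹ • x) = (k : AddMonoid.End V) x by
            rw [inv_one, one_smul, one_smul])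
        map_mul' := fun a b => RingEquiv.ext fun k => Subtype.ext (DFunLike.ext _ _ fun x =>
          show (a * b) • (k : AddMonoid.End V) ((a * b)⁻¹ • x) =
              a • b • (k : AddMonoid.End V) (b⁻¹ • a⁻¹ • x) by
            rw [mul_inv_rev, mul_smul, mul_smul]) }
    have hker : σ.ker ≤ C := fun a ha => hCdef ▸ Subgroup.mem_centralizer_iff.2 fun z hz => by
      have h1 : σ a (ι ⟨z, hz⟩) = ι ⟨z, hz⟩ := by rw [MonoidHom.mem_ker.1 ha]; rfl
      have h2 : ι ⟨a * z * a⁻¹, hZn.conj_mem z hz a⟩ = ι ⟨z, hz⟩ := by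
        rw [← h1]
        exact Subtype.ext (by
          show τ (a * z * a⁻¹) = τ a * τ z * τ a⁻¹
          rw [map_mul, map_mul])
      have h3 : a * z * a⁻¹ = z := congrArg Subtype.val (hι h2)
      exact (mul_inv_eq_iff_eq_mul.1 h3).symm
    have hk : C.index ≤ Nat.card (R ≃+* R) := by
      haveI : Finite (R ≃+* R) := Finite.of_injective (fun e : R ≃+* R => (e : R → R)) DFunLike.coe_injective
      refine le_trans (Nat.le_of_dvd (Nat.pos_of_ne_zero Subgroup.index_ne_zero_of_finite)
        (Subgroup.index_dvd_of_le hker)) ?_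
      rw [Subgroup.index_ker]
      exact Finite.card_subtype_le _
    obtain ⟨p, f, hp, hpf, hautle⟩ := ringAut_card_le R
    rw [Nat.card_eq_fintype_card, ← hqdef] at hpf
    have hk3 : 3 ≤ C.index := by
      have h1 : C.index ≠ 1 := fun h => htop (Subgroup.index_eq_one.1 h)
      obtain ⟨t, ht⟩ := hA.of_dvd_nat (Subgroup.index_dvd_card C)
      omega
    have hbound := hpar.outer hk3 hp hpf (hk.trans hautle)
    have hZq : Nat.card Z ≤ q - 1 := by
      rw [hqdef, ← Nat.card_eq_fintype_card, ← Nat.card_units]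
      refine Nat.card_le_card_of_injective (fun z => Units.mk0 (ι z) (hι0 z)) fun a b h => hι ?_
      exact congrArg Units.val h
    have hcardA : Nat.card A ≤ C.index * (q - 1) * (s * s * G) := by
      rw [← Subgroup.card_mul_index C, mul_comm (Nat.card C), mul_assoc]
      refine Nat.mul_le_mul_left _ ?_
      rw [Subgroup.card_eq_card_quotient_mul_card_subgroup (Z.subgroupOf C), hcardC, mul_comm]
      refine Nat.mul_le_mul_right _ ((le_of_eq ?_).trans hZq)
      exact Nat.card_congr (Subgroup.subgroupOfEquivOfLe hZC).toEquiv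
    have h4A : 4 * Nat.card A ≤ q ^ d :=
      ((Nat.mul_le_mul_left 4 hcardA).trans hbound).trans (Nat.pow_le_pow_right (by omega) hsd)
    calc 4 * ∑ g ∈ Finset.univ.filter (fun g => ¬g ∈ C), φ g
        ≤ 4 * ∑ _g ∈ Finset.univ.filter (fun g : A => ¬g ∈ C), q ^ d := by
          refine Nat.mul_le_mul_left 4 (Finset.sum_le_sum fun g hg => ?_)
          have h1 := hout g (Finset.mem_filter.1 hg).2
          show (if g = 1 then 0 else fx V g ^ 2 - 1) ≤ q ^ d
          split_ifs <;> omega
      _ ≤ 4 * (Nat.card A * q ^ d) := by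
          rw [Finset.sum_const, smul_eq_mul, Nat.card_eq_fintype_card]
          exact Nat.mul_le_mul_left 4 (Nat.mul_le_mul_right _ (Finset.card_le_univ _))
      _ = 4 * Nat.card A * q ^ d := by rw [mul_assoc]
      _ ≤ q ^ d * q ^ d := Nat.mul_le_mul_right _ h4A
      _ = (q ^ d) ^ 2 := (pow_two _).symm
  exact hpar.contra hsd (show 3 * cm ≤ 2 * d by omega) hpairs hS hX

end Cfsg.Agent.Solv.OddPair
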