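import Cfsg.Agent.Lib.Solv.OddPair.Subsets

/-!
Modules with a system of blocks, and the ring generated by a normal abelian subgroup.
-/

set_option autoImplicit false
set_option linter.unusedSectionVars false
set_option linter.style.haveILetI false

namespace Cfsg.Agent.Solv.OddPair

open scoped Pointwise

universe u v

section blocks

variable {A V : Type v} [Group A] [Finite A] [AddCommGroup V] [Finite V] [DistribMulAction A V]

/-- An orbit of independent subgroups with projections gives a base of size two. -/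
theorem base_of_blocks {n : ℕ} (hP : PB.{v} n) (hn : Nat.card V ≤ n + 1) (hA : Odd (Nat.card A))
    (hirr : ∀ U : AddSubgroup V, (∀ a : A, ∀ x ∈ U, a • x ∈ U) → U = ⊥ ∨ U = ⊤)
    (W0 : AddSubgroup V) (hW0 : W0 ≠ ⊥) (e : AddSubgroup V → AddMonoid.End V)
    (he1 : ∀ W ∈ MulAction.orbit A W0, ∀ x ∈ W, e W x = x)
    (he0 : ∀ W ∈ MulAction.orbit A W0, ∀ W' ∈ MulAction.orbit A W0, W' ≠ W → ∀ x ∈ W', e W x = 0)
    (hmov : ∃ a : A, a • W0 ≠ W0) : Base A V := by
  classical
  haveI : Nontrivial W0 := (AddSubgroup.nontrivial_iff_ne_bot W0).2 hW0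
  haveI : Fintype (MulAction.orbit A W0) := Fintype.ofFinite _
  have hmemorb : ∀ a : A, a • W0 ∈ MulAction.orbit A W0 := fun a => ⟨a, rfl⟩
  obtain ⟨H, hH⟩ : ∃ H, H = MulAction.stabilizer A W0 := ⟨_, rfl⟩
  have hHW : ∀ (h : H), ∀ x ∈ W0, h • x ∈ W0 := fun h x hx => by
    change (h : A) • x ∈ W0
    have h1 : (h : A) • W0 = W0 := MulAction.mem_stabilizer_iff.1 (hH ▸ h.2)
    rw [← h1]
    exact AddSubgroup.smul_mem_pointwise_smul x (h : A) W0 hx
  -- the stabiliser acts irreducibly on its block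
  letI := subAct W0 hHW
  have hirr0 : ∀ U : AddSubgroup W0, (∀ h : H, ∀ x ∈ U, h • x ∈ U) → U = ⊥ ∨ U = ⊤ := by
    intro U hU
    by_cases hU0 : U = ⊥
    · exact Or.inl hU0
    right
    let U' := U.map W0.subtype
    let Z := AddSubgroup.closure {y : V | ∃ (a : A), ∃ x ∈ U', a • x = y}
    have hZ : Z = ⊤ := by
      refine (hirr Z fun a x hx => ?_).resolve_left ?_
      · have h1 : Z ≤ Z.comap (DistribMulAction.toAddMonoidEnd A V a) := by
          rw [AddSubgroup.closure_le]
          rintro _ ⟨b, y, hy, rfl⟩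
          exact AddSubgroup.subset_closure ⟨a * b, y, hy, mul_smul a b y⟩
        exact h1 hx
      · intro hb
        refine hU0 ((AddSubgroup.eq_bot_iff_forall U).2 fun x hx => Subtype.ext ?_)
        have h1 : (x : V) ∈ Z := AddSubgroup.subset_closure ⟨1, x, ⟨x, hx, rfl⟩, one_smul A _⟩
        rwa [hb, AddSubgroup.mem_bot] at h1
    have hle : Z ≤ U'.comap (e W0) := by
      rw [AddSubgroup.closure_le]
      rintro _ ⟨a, x, hx, rfl⟩
      change e W0 (a • x) ∈ U'
      obtain ⟨u, hu, rfl⟩ := hx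
      by_cases ha : a • W0 = W0
      · have hm : a ∈ H := hH ▸ MulAction.mem_stabilizer_iff.2 ha
        have h1 : a • (u : V) = ((⟨a, hm⟩ : H) • u : W0) := rfl
        change e W0 (a • (u : V)) ∈ U'
        rw [h1, he1 W0 (MulAction.mem_orbit_self _) _ (SetLike.coe_mem _)]
        exact ⟨_, hU ⟨a, hm⟩ u hu, rfl⟩
      · change e W0 (a • (u : V)) ∈ U'
        rw [he0 W0 (MulAction.mem_orbit_self _) (a • W0) (hmemorb a) ha _
          (AddSubgroup.smul_mem_pointwise_smul _ a W0 u.2)]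
        exact U'.zero_mem
    refine eq_top_iff.2 fun x _ => ?_
    have h1 : e W0 (x : V) ∈ U' := hle (hZ ▸ AddSubgroup.mem_top (x : V))
    rw [he1 W0 (MulAction.mem_orbit_self _) _ x.2] at h1
    obtain ⟨u, hu, h2⟩ := h1
    rwa [← Subtype.ext h2]
  obtain ⟨a1, ha1⟩ := hmov
  have hne_top : W0 ≠ ⊤ := by
    intro h
    obtain ⟨⟨x, hx⟩, hx0⟩ := exists_ne (0 : W0)
    refine hx0 (Subtype.ext ?_)
    have h1 := AddSubgroup.smul_mem_pointwise_smul x a1 W0 hx
    have h2 := he0 W0 (MulAction.mem_orbit_self _) (a1 • W0) (hmemorb a1) ha1 _ h1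
    rw [he1 W0 (MulAction.mem_orbit_self _) _ (h ▸ AddSubgroup.mem_top _), smul_eq_zero_iff_eq] at h2
    exact h2
  have hcard0 : Nat.card W0 ≤ n := by
    have h1 : Nat.card W0 ≠ Nat.card V := fun h => hne_top (AddSubgroup.eq_top_of_card_eq _ h)
    have h2 : Nat.card W0 ≤ Nat.card V := Finite.card_subtype_le _
    omega
  obtain ⟨v0, w0, hvw, hb⟩ := Base.exists_pair_ne
    (hP H W0 (hA.of_dvd_nat (Subgroup.card_subgroup_dvd_card H)) (cr_of_irred hirr0) hcard0)
  -- colour the blocks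
  have hpick : ∀ W : MulAction.orbit A W0, ∃ x : V, x ∈ (W : AddSubgroup V) ∧ x ≠ 0 := by
    rintro ⟨_, a, rfl⟩
    obtain ⟨⟨x, hx⟩, hx0⟩ := exists_ne (0 : W0)
    exact ⟨a • x, AddSubgroup.smul_mem_pointwise_smul x a W0 hx,
      fun h => hx0 (Subtype.ext ((smul_eq_zero_iff_eq a).1 h))⟩
  choose pick hpick1 hpick2 using hpick
  have hm : Nat.card (MulAction.orbit A W0) ≤ n := by
    have h1 : Nat.card (MulAction.orbit A W0) < Nat.card V := by
      have hinj : Function.Injective pick := fun W W' h => by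
        by_contra hne
        refine hpick2 W ?_
        rw [← he1 _ W.2 _ (hpick1 W), h]
        exact he0 _ W.2 _ W'.2 (fun e => hne (Subtype.ext e.symm)) _ (hpick1 W')
      haveI := Fintype.ofFinite V
      rw [Nat.card_eq_fintype_card, Nat.card_eq_fintype_card]
      exact Fintype.card_lt_of_injective_of_notMem pick hinj (b := 0)
        (by rintro ⟨W, hW⟩; exact hpick2 W hW)
    omega
  obtain ⟨S, hS⟩ := split_of hP _ hm A (MulAction.orbit A W0) hA rfl
  choose t ht' using fun W : MulAction.orbit A W0 => (W.2 : ∃ a : A, a • W0 = W)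
  have ht : ∀ W : MulAction.orbit A W0, t W • W0 = (W : AddSubgroup V) := ht'
  let c : MulAction.orbit A W0 → W0 := fun W => if W ∈ S then v0 else w0
  let d : MulAction.orbit A W0 → W0 := fun W => if W ∈ S then w0 else v0
  refine ⟨∑ W, t W • (c W : V), ∑ W, t W • (d W : V), fun a hav haw => ?_⟩
  have hterm : ∀ (f : MulAction.orbit A W0 → W0), a • (∑ W, t W • (f W : V)) = ∑ W, t W • (f W : V) →
      ∀ W, a • t W • (f W : V) = t (a • W) • (f (a • W) : V) := by
    intro f hf W
    have hin : ∀ W : MulAction.orbit A W0, t W • (f W : V) ∈ (W : AddSubgroup V) := fun W => by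
      exact ht W ▸ AddSubgroup.smul_mem_pointwise_smul _ (t W) _ (f W).2
    have h1 := congrArg (e ((a • W : MulAction.orbit A W0) : AddSubgroup V)) hf
    rw [Finset.smul_sum, map_sum, map_sum, Finset.sum_eq_single W, Finset.sum_eq_single (a • W)] at h1
    · rw [he1 _ (a • W).2 _ (hin _)] at h1
      rw [he1 _ (a • W).2] at h1
      · exact h1
      · exact AddSubgroup.smul_mem_pointwise_smul _ a _ (hin W)
    · exact fun W' _ hne => he0 _ (a • W).2 _ W'.2 (fun h => hne (Subtype.ext h)) _ (hin W')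
    · exact fun h => absurd (Finset.mem_univ _) h
    · intro W' _ hne
      exact he0 _ (a • W).2 _ (a • W').2 (fun h => hne (MulAction.injective a (Subtype.ext h))) _
        (AddSubgroup.smul_mem_pointwise_smul _ a _ (hin W'))
    · exact fun h => absurd (Finset.mem_univ _) h
  have hmH : ∀ W : MulAction.orbit A W0, (t (a • W))⁻¹ * (a * t W) ∈ H := fun W => by
    rw [hH, MulAction.mem_stabilizer_iff, mul_smul, mul_smul, ht, inv_smul_eq_iff, ht]
    rfl
  have hmap : ∀ (f : MulAction.orbit A W0 → W0), a • (∑ W, t W • (f W : V)) = ∑ W, t W • (f W : V) →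
      ∀ W, (⟨_, hmH W⟩ : H) • f W = f (a • W) := fun f hf W => Subtype.ext (by
    show ((t (a • W))⁻¹ * (a * t W)) • (f W : V) = _
    rw [mul_smul, mul_smul, hterm f hf W, inv_smul_smul])
  have hS' : ∀ W, W ∈ S ↔ a • W ∈ S := by
    intro W
    have h1 := hmap c hav W
    have h2 := hmap d haw W
    obtain ⟨h, hh⟩ : ∃ h : H, h = ⟨_, hmH W⟩ := ⟨_, rfl⟩
    rw [← hh] at h1 h2
    by_contra hne
    have hswap : h • v0 = w0 ∧ h • w0 = v0 := by
      simp only [c, d] at h1 h2
      by_cases h3 : W ∈ S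
      · have h4 : a • W ∉ S := fun h4 => hne (iff_of_true h3 h4)
        rw [if_pos h3, if_neg h4] at h1 h2
        exact ⟨h1, h2⟩
      · have h4 : a • W ∈ S := by_contra fun h4 => hne (iff_of_false h3 h4)
        rw [if_neg h3, if_pos h4] at h1 h2
        exact ⟨h2, h1⟩
    have h3 := fix_of_sq (hA.of_dvd_nat (Subgroup.card_subgroup_dvd_card H))
      (show h • h • v0 = v0 by rw [hswap.1, hswap.2])
    exact hvw (h3.symm.trans hswap.1)
  have hfixW := hS a hS'
  have hblock : ∀ W : MulAction.orbit A W0, ∀ x : W0, a • t W • (x : V) = t W • (x : V) := by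
    intro W x
    have h1 := hmap c hav W
    have h2 := hmap d haw W
    obtain ⟨h, hh⟩ : ∃ h : H, h = ⟨_, hmH W⟩ := ⟨_, rfl⟩
    rw [← hh] at h1 h2
    rw [hfixW W] at h1 h2
    simp only [c, d] at h1 h2
    have h3 : h • x = x := by
      by_cases hW : W ∈ S
      · rw [if_pos hW] at h1 h2; exact hb h h1 h2 x
      · rw [if_neg hW] at h1 h2; exact hb h h2 h1 x
    have h4 : ((t (a • W))⁻¹ * (a * t W)) • (x : V) = x := by
      rw [hh] at h3; exact congrArg Subtype.val h3
    rw [hfixW W, mul_smul, mul_smul, inv_smul_eq_iff] at h4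
    exact h4
  intro x
  let Z : AddSubgroup V := AddSubgroup.closure {y : V | ∃ W : MulAction.orbit A W0, y ∈ (W : AddSubgroup V)}
  have hZ : Z = ⊤ := by
    refine (hirr Z fun b y hy => ?_).resolve_left fun hb' => ?_
    · have h1 : Z ≤ Z.comap (DistribMulAction.toAddMonoidEnd A V b) := by
        rw [AddSubgroup.closure_le]
        rintro z ⟨W, hz⟩
        exact AddSubgroup.subset_closure ⟨b • W, AddSubgroup.smul_mem_pointwise_smul z b _ hz⟩
      exact h1 hy
    · have W1 : MulAction.orbit A W0 := ⟨W0, MulAction.mem_orbit_self _⟩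
      have h1 : pick W1 ∈ Z := AddSubgroup.subset_closure ⟨W1, hpick1 W1⟩
      rw [hb', AddSubgroup.mem_bot] at h1
      exact hpick2 W1 h1
  have hle : Z ≤ AddMonoidHom.eqLocus (DistribMulAction.toAddMonoidEnd A V a) (AddMonoidHom.id V) := by
    rw [AddSubgroup.closure_le]
    rintro y ⟨W, hy⟩
    rw [← ht W, AddSubgroup.mem_smul_pointwise_iff_exists] at hy
    obtain ⟨z, hz, rfl⟩ := hy
    exact hblock W ⟨z, hz⟩
  exact hle (hZ ▸ AddSubgroup.mem_top x)

end blocks

section ring

variable {A : Type u} (V : Type v) [Group A] [AddCommGroup V] [DistribMulAction A V]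

/-- The ring of endomorphisms generated by a subgroup. -/
def imgRing (N : Subgroup A) : Subring (AddMonoid.End V) :=
  Subring.closure (DistribMulAction.toAddMonoidEnd A V '' (N : Set A))

variable {V}

theorem mem_imgRing {N : Subgroup A} {g : A} (hg : g ∈ N) :
    DistribMulAction.toAddMonoidEnd A V g ∈ imgRing V N :=
  Subring.subset_closure ⟨g, hg, rfl⟩

theorem imgRing_comm {N : Subgroup A} (hN : ∀ x ∈ N, ∀ y ∈ N, Commute x y) :
    ∀ b ∈ imgRing V N, ∀ c ∈ imgRing V N, b * c = c * b := by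
  have h1 : imgRing V N ≤ Subring.centralizer (DistribMulAction.toAddMonoidEnd A V '' (N : Set A)) := by
    rw [imgRing, Subring.closure_le]
    rintro _ ⟨g, hg, rfl⟩
    refine Subring.mem_centralizer_iff.2 ?_
    rintro _ ⟨h, hh, rfl⟩
    exact (((hN h hh g hg).map (DistribMulAction.toAddMonoidEnd A V))).eq
  have h2 : imgRing V N ≤ Subring.centralizer (imgRing V N : Set (AddMonoid.End V)) := by
    rw [imgRing, Subring.closure_le]
    rintro _ ⟨g, hg, rfl⟩
    refine Subring.mem_centralizer_iff.2 fun c hc => ?_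
    exact (Subring.mem_centralizer_iff.1 (h1 hc) _ ⟨g, hg, rfl⟩).symm
  intro b hb c hc
  exact (Subring.mem_centralizer_iff.1 (h2 hb) c hc).symm

/-- Conjugation preserves the ring of a normal subgroup. -/
theorem imgRing_conj {N : Subgroup A} (hN : N.Normal) (a : A) {b : AddMonoid.End V}
    (hb : b ∈ imgRing V N) :
    DistribMulAction.toAddMonoidEnd A V a * b * DistribMulAction.toAddMonoidEnd A V a⁻¹ ∈
      imgRing V N := by
  let τ := DistribMulAction.toAddMonoidEnd A V
  have hinv : τ a⁻¹ * τ a = 1 := by rw [← map_mul, inv_mul_cancel, map_one]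
  refine Subring.closure_induction (p := fun b _ => τ a * b * τ a⁻¹ ∈ imgRing V N) ?_ ?_ ?_ ?_ ?_ ?_ hb
  · rintro _ ⟨g, hg, rfl⟩
    rw [show τ a * τ g * τ a⁻¹ = τ (a * g * a⁻¹) by rw [map_mul, map_mul]]
    exact mem_imgRing (hN.conj_mem g hg a)
  · rw [mul_zero, zero_mul]; exact zero_mem _
  · rw [mul_one, ← map_mul, mul_inv_cancel, map_one]; exact one_mem _
  · intro x y _ _ hx hy
    rw [mul_add, add_mul]; exact add_mem hx hy
  · intro x _ hx
    rw [mul_neg, neg_mul]; exact neg_mem hx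
  · intro x y _ _ hx hy
    rw [show τ a * (x * y) * τ a⁻¹ = (τ a * x * τ a⁻¹) * (τ a * y * τ a⁻¹) by
      simp only [mul_assoc]
      rw [← mul_assoc (τ a⁻¹) (τ a), hinv, one_mul]]
    exact mul_mem hx hy

end ring

variable {A V : Type v} [Group A] [Finite A] [AddCommGroup V] [Finite V] [DistribMulAction A V]

/-- Either the module has a system of blocks with projections or the ring of a normal abelian
subgroup is a field. -/
theorem sys_or_field [Nontrivial V]
    (hirr : ∀ U : AddSubgroup V, (∀ a : A, ∀ x ∈ U, a • x ∈ U) → U = ⊥ ∨ U = ⊤)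
    {N : Subgroup A} (hN : N.Normal) (hNc : ∀ x ∈ N, ∀ y ∈ N, Commute x y) :
    (∃ (W0 : AddSubgroup V) (e : AddSubgroup V → AddMonoid.End V), W0 ≠ ⊥ ∧
      (∀ W ∈ MulAction.orbit A W0, ∀ x ∈ W, e W x = x) ∧
      (∀ W ∈ MulAction.orbit A W0, ∀ W' ∈ MulAction.orbit A W0, W' ≠ W → ∀ x ∈ W', e W x = 0) ∧
      ∃ a : A, a • W0 ≠ W0) ∨
    ∀ b ∈ imgRing V N, ∀ x : V, x ≠ 0 → b x = 0 → b = 0 := by
  classical
  let B := imgRing V N
  let τ := DistribMulAction.toAddMonoidEnd A V
  have hcomm := imgRing_comm (V := V) hNc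
  have hcomm' : ∀ b ∈ B, ∀ c ∈ B, ∀ y : V, b (c y) = c (b y) := fun b hb c hc y =>
    DFunLike.congr_fun (hcomm b hb c hc) y
  let ann : V → Set (AddMonoid.End V) := fun u => {b | b ∈ B ∧ b u = 0}
  haveI : Finite (AddMonoid.End V) := Finite.of_injective (fun f : AddMonoid.End V => (f : V → V))
    DFunLike.coe_injective
  haveI : Nonempty {u : V // u ≠ 0} := nonempty_subtype.2 (exists_ne 0)
  obtain ⟨⟨v, hv⟩, hmax⟩ := Finite.exists_max fun u : {u : V // u ≠ 0} => (ann u).ncard
  let Good : V → Prop := fun u => u ≠ 0 ∧ ∀ u' : V, u' ≠ 0 → ann u ⊆ ann u' → ann u' ⊆ ann u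
  have hannA : ∀ (a : A) (u : V) (b : AddMonoid.End V), b ∈ ann u →
      τ a * b * τ a⁻¹ ∈ ann (a • u) := fun a u b hb =>
    ⟨imgRing_conj hN a hb.1, show a • b (a⁻¹ • a • u) = 0 by rw [inv_smul_smul, hb.2, smul_zero]⟩
  have hgood : ∀ a : A, Good (a • v) := by
    intro a
    refine ⟨fun h => hv ((smul_eq_zero_iff_eq a).1 h), fun u' hu' hsub b hb => ?_⟩
    have h1 : ann v ⊆ ann (a⁻¹ • u') := fun c hc => by
      have h2 := hannA a⁻¹ _ _ (hsub (hannA a v c hc))
      rwa [show τ a⁻¹ * (τ a * c * τ a⁻¹) * τ a⁻¹⁻¹ = c by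
        rw [inv_inv, ← mul_assoc, ← mul_assoc, ← map_mul, inv_mul_cancel, map_one, one_mul,
          mul_assoc, ← map_mul, inv_mul_cancel, map_one, mul_one]] at h2
    have h2 : ann v = ann (a⁻¹ • u') := Set.eq_of_subset_of_ncard_le h1
      (hmax ⟨a⁻¹ • u', fun h => hu' ((smul_eq_zero_iff_eq a⁻¹).1 h)⟩)
    have h3 := hannA a v _ (h2.ge (hannA a⁻¹ u' b hb))
    rwa [show τ a * (τ a⁻¹ * b * τ a⁻¹⁻¹) * τ a⁻¹ = b by
      rw [inv_inv, ← mul_assoc, ← mul_assoc, ← map_mul, mul_inv_cancel, map_one, one_mul,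
        mul_assoc, ← map_mul, mul_inv_cancel, map_one, mul_one]] at h3
  -- unit on a good vector
  have hunit : ∀ u, Good u → ∀ b ∈ B, b u ≠ 0 → ∃ c ∈ B, c (b u) = u := by
    intro u hu b hb hbu
    let M : Set V := {y | ∃ d ∈ B, d u = y}
    haveI : Finite M := Subtype.finite
    let f : M → M := fun y => ⟨b y, by
      obtain ⟨d, hd, hdy⟩ := y.2
      exact ⟨b * d, mul_mem hb hd, congrArg b hdy⟩⟩
    have hf : Function.Injective f := by
      rintro ⟨y, d, hd, rfl⟩ ⟨z, d', hd', rfl⟩ h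
      have h1 : b (d u) = b (d' u) := congrArg Subtype.val h
      refine Subtype.ext ?_
      have h2 : (d - d') (b u) = 0 := by
        change d (b u) - d' (b u) = 0
        rw [← hcomm' b hb d hd, ← hcomm' b hb d' hd', h1, sub_self]
      have h3 : ann u ⊆ ann (b u) := fun c hc =>
        ⟨hc.1, by rw [hcomm' c hc.1 b hb, hc.2, map_zero]⟩
      have h4 : (d - d') u = 0 := (hu.2 (b u) hbu h3 ⟨sub_mem hd hd', h2⟩).2
      exact sub_eq_zero.1 h4
    obtain ⟨⟨y, d, hd, rfl⟩, hy⟩ := (Finite.injective_iff_surjective.1 hf) ⟨u, 1, one_mem _, rfl⟩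
    exact ⟨d, hd, by rw [hcomm' d hd b hb]; exact congrArg Subtype.val hy⟩
  let K : V → AddSubgroup V := fun u =>
    { carrier := {y | ∀ b ∈ B, b u = 0 → b y = 0}
      zero_mem' := fun b _ _ => map_zero b
      add_mem' := fun {y z} hy hz b hb h => by rw [map_add, hy b hb h, hz b hb h, add_zero]
      neg_mem' := fun {y} hy b hb h => by rw [map_neg, hy b hb h, neg_zero] }
  have hself : ∀ u, u ∈ K u := fun u b _ h => h
  have hKmap : ∀ (a : A), a • K v = K (a • v) := by
    intro a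
    ext y
    rw [AddSubgroup.mem_pointwise_smul_iff_inv_smul_mem]
    constructor
    · intro hy b hb hbu
      have h1 := hy _ (imgRing_conj hN a⁻¹ hb)
        (show a⁻¹ • b (a⁻¹⁻¹ • v) = 0 by rw [inv_inv, hbu, smul_zero])
      change a⁻¹ • b (a⁻¹⁻¹ • a⁻¹ • y) = 0 at h1
      rwa [inv_inv, smul_inv_smul, smul_eq_zero_iff_eq] at h1
    · intro hy b hb hbv
      have h1 := hy _ (imgRing_conj hN a hb)
        (show a • b (a⁻¹ • a • v) = 0 by rw [inv_smul_smul, hbv, smul_zero])
      change a • b (a⁻¹ • y) = 0 at h1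
      rwa [smul_eq_zero_iff_eq] at h1
  by_cases hmov : ∃ a : A, a • K v ≠ K v
  · left
    -- separating elements
    have hsep : ∀ u w, Good u → Good w → K u ≠ K w →
        ∃ f ∈ B, (∀ y ∈ K u, f y = y) ∧ ∀ y ∈ K w, f y = 0 := by
      intro u w hu hw hne
      obtain ⟨b, hb, hbw, hbu⟩ : ∃ b ∈ B, b w = 0 ∧ b u ≠ 0 := by
        by_contra hcon
        push Not at hcon
        have h1 : ann w ⊆ ann u := fun b hb => ⟨hb.1, hcon b hb.1 hb.2⟩
        have h2 : ann u = ann w := (hw.2 u hu.1 h1).antisymm h1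
        refine hne (le_antisymm (fun y hy b hb h => hy b hb (h2.ge ⟨hb, h⟩).2)
          (fun y hy b hb h => hy b hb (h2.le ⟨hb, h⟩).2))
      obtain ⟨c, hc, hcb⟩ := hunit u hu b hb hbu
      refine ⟨c * b, mul_mem hc hb, fun y hy => ?_, fun y hy => ?_⟩
      · have h1 := hy (c * b - 1) (sub_mem (mul_mem hc hb) (one_mem _))
          (show c (b u) - u = 0 by rw [hcb, sub_self])
        exact sub_eq_zero.1 h1
      · exact hy (c * b) (mul_mem hc hb) (show c (b w) = 0 by rw [hbw, map_zero])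
    haveI : Fintype (MulAction.orbit A (K v)) := Fintype.ofFinite _
    have hrep : ∀ W ∈ MulAction.orbit A (K v), ∃ u, Good u ∧ W = K u := by
      rintro _ ⟨a, rfl⟩
      exact ⟨a • v, hgood a, hKmap a⟩
    have hproj : ∀ W ∈ MulAction.orbit A (K v), ∀ s : Finset (MulAction.orbit A (K v)),
        ∃ f ∈ B, (∀ y ∈ W, f y = y) ∧
          ∀ W' ∈ s, (W' : AddSubgroup V) ≠ W → ∀ y ∈ (W' : AddSubgroup V), f y = 0 := by
      intro W hW s
      induction s using Finset.induction_on with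
      | empty => exact ⟨1, one_mem _, fun y _ => rfl, fun W' h => absurd h (Finset.notMem_empty _)⟩
      | insert W' s _ ih =>
        obtain ⟨f, hf, hf1, hf0⟩ := ih
        by_cases hne : (W' : AddSubgroup V) = W
        · refine ⟨f, hf, hf1, fun W'' h hne' => ?_⟩
          rcases Finset.mem_insert.1 h with rfl | h
          · exact absurd hne hne'
          · exact hf0 W'' h hne'
        obtain ⟨u, hu, rfl⟩ := hrep W hW
        obtain ⟨w, hw, hw'⟩ := hrep _ W'.2
        obtain ⟨g, hg, hg1, hg0⟩ := hsep u w hu hw (fun h => hne (hw'.trans h.symm))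
        refine ⟨g * f, mul_mem hg hf, fun y hy => ?_, fun W'' h hne' y hy => ?_⟩
        · show g (f y) = y
          rw [hf1 y hy, hg1 y hy]
        · show g (f y) = 0
          rcases Finset.mem_insert.1 h with rfl | h
          · rw [hcomm' g hg f hf, hg0 y (hw' ▸ hy), map_zero]
          · rw [hf0 W'' h hne' y hy, map_zero]
    have hproj' : ∀ W : AddSubgroup V, ∃ f : AddMonoid.End V, W ∈ MulAction.orbit A (K v) →
        (∀ y ∈ W, f y = y) ∧ ∀ W' ∈ MulAction.orbit A (K v), W' ≠ W → ∀ y ∈ W', f y = 0 := by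
      intro W
      by_cases hW : W ∈ MulAction.orbit A (K v)
      · obtain ⟨f, -, h1, h0⟩ := hproj W hW Finset.univ
        exact ⟨f, fun _ => ⟨h1, fun W' hW' => h0 ⟨W', hW'⟩ (Finset.mem_univ _)⟩⟩
      · exact ⟨0, fun h => absurd h hW⟩
    choose e he using hproj'
    exact ⟨K v, e, fun h => hv (AddSubgroup.mem_bot.1 (h ▸ hself v)),
      fun W hW => (he W hW).1, fun W hW => (he W hW).2, hmov⟩
  · right
    push Not at hmov
    have htop : K v = ⊤ := by
      refine (hirr (K v) fun a y hy => ?_).resolve_left fun h =>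
        hv (AddSubgroup.mem_bot.1 (h ▸ hself v))
      rw [← hmov a]
      exact AddSubgroup.smul_mem_pointwise_smul y a _ hy
    intro b hb x hx hbx
    have hg : Good v := one_smul A v ▸ hgood 1
    have hzero : ∀ c ∈ B, c v = 0 → c = 0 := fun c hc h => DFunLike.ext _ _ fun y =>
      (htop ▸ AddSubgroup.mem_top y : y ∈ K v) c hc h
    by_contra hb0
    obtain ⟨c, hc, hcb⟩ := hunit v hg b hb fun h => hb0 (hzero b hb h)
    have h1 := hzero (c * b - 1) (sub_mem (mul_mem hc hb) (one_mem _))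
      (show c (b v) - v = 0 by rw [hcb, sub_self])
    have h2 : c (b x) - x = 0 := DFunLike.congr_fun h1 x
    rw [hbx, map_zero, zero_sub, neg_eq_zero] at h2
    exact hx h2

/-- Either a base exists or the ring of a normal abelian subgroup is a field. -/
theorem base_or_field {n : ℕ} (hP : PB.{v} n) (hn : Nat.card V ≤ n + 1) (hA : Odd (Nat.card A))
    (hirr : ∀ U : AddSubgroup V, (∀ a : A, ∀ x ∈ U, a • x ∈ U) → U = ⊥ ∨ U = ⊤)
    {N : Subgroup A} (hN : N.Normal) (hNc : ∀ x ∈ N, ∀ y ∈ N, Commute x y) :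
    Base A V ∨ ∀ b ∈ imgRing V N, ∀ x : V, x ≠ 0 → b x = 0 → b = 0 := by
  rcases subsingleton_or_nontrivial V with hs | hnt
  · exact Or.inl ⟨0, 0, fun a _ _ x => Subsingleton.elim _ _⟩
  exact (sys_or_field hirr hN hNc).imp
    (fun ⟨W0, e, h0, h1, h2, hm⟩ => base_of_blocks hP hn hA hirr W0 h0 e h1 h2 hm) id

end Cfsg.Agent.Solv.OddPair
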