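import Cfsg.Agent.Lib.Solv.OddPair.Prim

/-!
Bases of size two for completely reducible odd order groups.
-/

set_option autoImplicit false
set_option linter.unusedSectionVars false
set_option linter.style.haveILetI false

namespace Cfsg.Agent.Solv.OddPair

universe u v

theorem pb_all (n : ℕ) : PB.{v} n := by
  induction n with
  | zero =>
    intro A V _ _ _ _ _ _ _ h
    have := Nat.card_pos (α := V)
    omega
  | succ n ih =>
    intro A V _ _ _ _ _ hA hcr hV
    rcases subsingleton_or_nontrivial V with hs | hnt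
    · exact ⟨0, 0, fun a _ _ x => Subsingleton.elim _ _⟩
    by_cases hirr : ∀ U : AddSubgroup V, (∀ a : A, ∀ x ∈ U, a • x ∈ U) → U = ⊥ ∨ U = ⊤
    · refine base_of_quot ?_
      letI := quotAct (A := A) (V := V)
      have hirr' : ∀ U : AddSubgroup V, (∀ a : A ⧸ kerV A V, ∀ x ∈ U, a • x ∈ U) → U = ⊥ ∨ U = ⊤ :=
        fun U hU => hirr U fun a x hx => hU (a : A ⧸ kerV A V) x hx
      by_cases hfield : ∀ N : Subgroup (A ⧸ kerV A V), N.Normal → (∀ x ∈ N, ∀ y ∈ N, Commute x y) →
          ∀ b ∈ imgRing V N, ∀ x : V, x ≠ 0 → b x = 0 → b = 0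
      · exact primitive ih hV (odd_quot hA _) quot_faithful hfield
      · push Not at hfield
        obtain ⟨N, hN, hNc, b, hb, x, hx, hbx, hb0⟩ := hfield
        exact (base_or_field ih hV (odd_quot hA _) hirr' hN hNc).resolve_right
          fun h => hb0 (h b hb x hx hbx)
    · push Not at hirr
      obtain ⟨U, hU, hU0, hU1⟩ := hirr
      obtain ⟨W, hW, hd, hs⟩ := hcr U hU
      have hW1 : W ≠ ⊤ := fun h => hU0 (by rwa [h, inf_top_eq] at hd)
      have hsmall : ∀ X : AddSubgroup V, X ≠ ⊤ → Nat.card X ≤ n := fun X hX => by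
        have h1 : Nat.card X ≠ Nat.card V := fun h => hX (AddSubgroup.eq_top_of_card_eq _ h)
        have h2 : Nat.card X ≤ Nat.card V := Finite.card_subtype_le _
        omega
      refine base_of_compl hU hW hd hs ?_ ?_
      · letI := subAct U hU
        exact ih A U hA (cr_sub hcr U hU) (hsmall U hU1)
      · letI := subAct W hW
        exact ih A W hA (cr_sub hcr W hW) (hsmall W hW1)

/-- The two-vector theorem with the universes free. -/
theorem base_odd {A : Type u} {V : Type v} [Group A] [Finite A] [AddCommGroup V] [Finite V]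
    [DistribMulAction A V] (hA : Odd (Nat.card A)) (hcr : CR A V) : Base A V := by
  let ρ := MulAction.toPermHom A V
  letI : DistribMulAction ρ.range V :=
    { smul := fun e x => (e : Equiv.Perm V) x
      one_smul := fun x => rfl
      mul_smul := fun e f x => rfl
      smul_zero := fun e => by
        obtain ⟨a, ha⟩ := e.2
        show (e : Equiv.Perm V) 0 = 0
        rw [← ha]; exact smul_zero a
      smul_add := fun e x y => by
        obtain ⟨a, ha⟩ := e.2
        show (e : Equiv.Perm V) (x + y) = (e : Equiv.Perm V) x + (e : Equiv.Perm V) y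
        rw [← ha]; exact smul_add a x y }
  have hcr' : CR ρ.range V := by
    intro U hU
    obtain ⟨W, hW, hd⟩ := hcr U fun a x hx => hU (ρ.rangeRestrict a) x hx
    refine ⟨W, fun e x hx => ?_, hd⟩
    obtain ⟨a, rfl⟩ := ρ.rangeRestrict_surjective e
    exact hW a x hx
  obtain ⟨v, w, h⟩ := pb_all (Nat.card V) ρ.range V
    (hA.of_dvd_nat (Subgroup.card_range_dvd ρ)) hcr' le_rfl
  exact ⟨v, w, fun a ha hb => h (ρ.rangeRestrict a) ha hb⟩

end Cfsg.Agent.Solv.OddPair
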