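import Cfsg.Agent.Lib.Solv.OddPair.Subsets

/-!
The symplectic layer above a maximal normal abelian subgroup embedded in a field.
-/

set_option autoImplicit false
set_option linter.unusedSectionVars false
set_option linter.style.haveILetI false

namespace Cfsg.Agent.Solv.OddPair

universe u v

variable {A : Type u} [Group A] {K : Type v} [Field K]

/-- Commutation with `y` as a character of `N`. -/
def chi {Z : Subgroup A} (ι : Z →* K) (N : Subgroup A) (hN : N ≤ Subgroup.centralizer (Z : Set A))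
    (y : A) (hy : ∀ n ∈ N, y * n * y⁻¹ * n⁻¹ ∈ Z) : N →* K where
  toFun n := ι ⟨y * n * y⁻¹ * (n : A)⁻¹, hy n n.2⟩
  map_one' := by
    rw [show (⟨y * ((1 : N) : A) * y⁻¹ * ((1 : N) : A)⁻¹, hy _ (1 : N).2⟩ : Z) = 1 from
      Subtype.ext (by simp), map_one]
  map_mul' a b := by
    rw [← map_mul]
    refine congrArg ι (Subtype.ext ?_)
    have hc : y * b * y⁻¹ * (b : A)⁻¹ * a = a * (y * b * y⁻¹ * (b : A)⁻¹) :=
      Subgroup.mem_centralizer_iff.1 (hN a.2) _ (hy b b.2)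
    change y * ((a : A) * b) * y⁻¹ * ((a : A) * b)⁻¹ =
      (y * a * y⁻¹ * (a : A)⁻¹) * (y * b * y⁻¹ * (b : A)⁻¹)
    calc y * ((a : A) * b) * y⁻¹ * ((a : A) * b)⁻¹
        = y * a * y⁻¹ * (y * b * y⁻¹ * (b : A)⁻¹) * (a : A)⁻¹ := by group
      _ = y * a * y⁻¹ * (a : A)⁻¹ * (y * b * y⁻¹ * (b : A)⁻¹ * a) * (a : A)⁻¹ := by rw [hc]; group
      _ = y * a * y⁻¹ * (a : A)⁻¹ * (y * b * y⁻¹ * (b : A)⁻¹) := by group

theorem chi_apply {Z : Subgroup A} (ι : Z →* K) (N : Subgroup A)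
    (hN : N ≤ Subgroup.centralizer (Z : Set A)) (y : A) (hy : ∀ n ∈ N, y * n * y⁻¹ * n⁻¹ ∈ Z) (n : N) :
    chi ι N hN y hy n = ι ⟨y * n * y⁻¹ * (n : A)⁻¹, hy n n.2⟩ := rfl

/-- Elements inducing different automorphisms congruent to one modulo `Z` are few. -/
theorem card_conj_le [Finite A] {Z : Subgroup A} (ι : Z →* K) (hι : Function.Injective ι)
    (N M : Subgroup A) [(M.subgroupOf N).Normal] (hN : N ≤ Subgroup.centralizer (Z : Set A))
    {I : Type*} [Finite I] (f : I → A) (hf : ∀ i, ∀ n ∈ N, f i * n * (f i)⁻¹ * n⁻¹ ∈ Z)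
    (hfM : ∀ i, ∀ x ∈ M, f i * x * (f i)⁻¹ = x)
    (hinj : ∀ i j, (∀ n ∈ N, f i * n * (f i)⁻¹ = f j * n * (f j)⁻¹) → i = j) :
    Nat.card I ≤ M.relIndex N := by
  classical
  let Φ : I → (N ⧸ M.subgroupOf N →* K) := fun i =>
    QuotientGroup.lift (M.subgroupOf N) (chi ι N hN (f i) (hf i)) fun x hx => by
      rw [MonoidHom.mem_ker, chi_apply, ← map_one ι]
      refine congrArg ι (Subtype.ext ?_)
      show f i * (x : A) * (f i)⁻¹ * (x : A)⁻¹ = 1
      rw [hfM i x hx, mul_inv_cancel]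
  have hΦ : Function.Injective Φ := by
    intro i j hij
    refine hinj i j fun n hn => ?_
    have h1 : chi ι N hN (f i) (hf i) ⟨n, hn⟩ = chi ι N hN (f j) (hf j) ⟨n, hn⟩ :=
      DFunLike.congr_fun hij ((⟨n, hn⟩ : N) : N ⧸ M.subgroupOf N)
    rw [chi_apply, chi_apply] at h1
    exact mul_right_cancel (congrArg Subtype.val (hι h1))
  haveI := Fintype.ofFinite I
  haveI := Fintype.ofFinite (N ⧸ M.subgroupOf N)
  have h2 : LinearIndependent K fun i : I => ((Φ i : _ →* K) : N ⧸ M.subgroupOf N → K) :=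
    (linearIndependent_monoidHom (N ⧸ M.subgroupOf N) K).comp Φ hΦ
  have h3 := h2.fintype_card_le_finrank
  rw [Module.finrank_fintype_fun_eq_card] at h3
  rw [Nat.card_eq_fintype_card, Subgroup.relIndex, Subgroup.index_eq_card, Nat.card_eq_fintype_card]
  exact h3

/-- `Z` is maximal among normal abelian subgroups. -/
def MaxAb (Z : Subgroup A) : Prop :=
  ∀ N : Subgroup A, N.Normal → (∀ x ∈ N, ∀ y ∈ N, Commute x y) → Z ≤ N → N ≤ Z

/-- All commutators of elements of `E` lie in `Z`. -/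
def InZ (Z E : Subgroup A) : Prop := ∀ x ∈ E, ∀ y ∈ E, x * y * x⁻¹ * y⁻¹ ∈ Z

/-- A normal subgroup with commutators in `Z` just above `Z`. -/
theorem exists_layer [Finite A] (hA : Group.IsSolvable A) {Z W : Subgroup A} [Z.Normal] [W.Normal]
    (hZW : Z ≤ W) (hWZ : W ≤ Subgroup.centralizer (Z : Set A)) (hne : ¬W ≤ Z) :
    ∃ E : Subgroup A, E.Normal ∧ Z ≤ E ∧ E ≤ W ∧ InZ Z E ∧ ¬E ≤ Z := by
  classical
  haveI := hA
  let D : ℕ → Subgroup A := fun k => Nat.rec W (fun _ P => ⁅P, P⁆) k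
  have hD : ∀ k, (D k).Normal ∧ D k ≤ W ∧ D k ≤ derivedSeries A k := by
    intro k
    induction k with
    | zero => exact ⟨‹W.Normal›, le_rfl, le_top⟩
    | succ k ih =>
      haveI := ih.1
      exact ⟨Subgroup.commutator_normal _ _, (Subgroup.commutator_le_left _ _).trans ih.2.1,
        Subgroup.commutator_mono ih.2.2 ih.2.2⟩
  obtain ⟨r, hr⟩ := (Group.isSolvable_def A).1 inferInstance
  have hex : ∃ k, D k ≤ Z := ⟨r, (hD r).2.2.trans (hr ▸ bot_le)⟩
  have h0 : Nat.find hex ≠ 0 := fun h => hne (by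
    have := Nat.find_spec hex
    rwa [h] at this)
  obtain ⟨k, hk⟩ := Nat.exists_eq_succ_of_ne_zero h0
  have hkZ : ⁅D k, D k⁆ ≤ Z := by
    have := Nat.find_spec hex
    rwa [hk] at this
  have hkne : ¬D k ≤ Z := Nat.find_min hex (by omega)
  haveI := (hD k).1
  obtain ⟨Dk, hDk⟩ : ∃ Dk, Dk = D k := ⟨_, rfl⟩
  haveI : Dk.Normal := hDk ▸ (hD k).1
  rw [← hDk] at hkZ hkne
  have hDkW : Dk ≤ W := hDk ▸ (hD k).2.1
  refine ⟨Dk ⊔ Z, inferInstance, le_sup_right, sup_le hDkW hZW, fun x hx y hy => ?_,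
    fun h => hkne (le_sup_left.trans h)⟩
  have hx' : x ∈ ((Dk ⊔ Z : Subgroup A) : Set A) := hx
  have hy' : y ∈ ((Dk ⊔ Z : Subgroup A) : Set A) := hy
  rw [Subgroup.mul_normal, Set.mem_mul] at hx' hy'
  obtain ⟨a, ha, z, hz, rfl⟩ := hx'
  obtain ⟨b, hb, w, hw, rfl⟩ := hy'
  have hab := hkZ (Subgroup.commutator_mem_commutator ha hb)
  have cz : ∀ g ∈ W, ∀ t ∈ Z, g * t * g⁻¹ = t := fun g hg t ht => by
    rw [← Subgroup.mem_centralizer_iff.1 (hWZ hg) t ht, mul_inv_cancel_right]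
  have e : a * z * (b * w) * (a * z)⁻¹ * (b * w)⁻¹ = a * b * a⁻¹ * b⁻¹ := by
    have hbw : b * w ∈ W := W.mul_mem (hDkW hb) (hZW hw)
    have h1 : z * (b * w) * z⁻¹ = b * w := by
      have h := Subgroup.mem_centralizer_iff.1 (hWZ hbw) z hz
      rw [h, mul_inv_cancel_right]
    have h2 : w * a⁻¹ * w⁻¹ = a⁻¹ := by
      have h := Subgroup.mem_centralizer_iff.1 (hWZ (W.inv_mem (hDkW ha))) w hw
      rw [h, mul_inv_cancel_right]
    calc a * z * (b * w) * (a * z)⁻¹ * (b * w)⁻¹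
        = a * (z * (b * w) * z⁻¹) * a⁻¹ * w⁻¹ * b⁻¹ := by group
      _ = a * b * (w * a⁻¹ * w⁻¹) * b⁻¹ := by rw [h1]; group
      _ = a * b * a⁻¹ * b⁻¹ := by rw [h2]
  rw [e]
  exact hab

/-- The data of the layer `E`. -/
structure Extra (Z E : Subgroup A) : Prop where
  normal : E.Normal
  le : Z ≤ E
  le_centralizer : E ≤ Subgroup.centralizer (Z : Set A)
  inZ : InZ Z E
  center_le : ∀ x ∈ E, (∀ y ∈ E, Commute x y) → x ∈ Z
  outside : ∀ c ∈ Subgroup.centralizer (Z : Set A),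
    (∀ n ∈ E, c * n * c⁻¹ * n⁻¹ ∈ Z) → c ∈ E

variable [Finite A]

theorem exists_extra (hA : Group.IsSolvable A) {Z : Subgroup A} [Z.Normal]
    (hZc : ∀ x ∈ Z, ∀ y ∈ Z, Commute x y) (hmax : MaxAb Z) (ι : Z →* K) (hι : Function.Injective ι)
    (hC : ¬Subgroup.centralizer (Z : Set A) ≤ Z) :
    ∃ E : Subgroup A, Extra Z E ∧ ¬E ≤ Z := by
  classical
  obtain ⟨C, hCdef⟩ : ∃ C, C = Subgroup.centralizer (Z : Set A) := ⟨_, rfl⟩
  haveI hCn : C.Normal := hCdef ▸ inferInstance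
  have hZC : Z ≤ C := hCdef ▸ fun x hx => Subgroup.mem_centralizer_iff.2 fun y hy => (hZc y hy x hx).eq
  let P : Subgroup A → Prop := fun E => E.Normal ∧ Z ≤ E ∧ E ≤ C ∧ InZ Z E
  have hP0 : P Z := ⟨inferInstance, le_rfl, hZC, fun x hx y hy =>
    Z.mul_mem (Z.mul_mem (Z.mul_mem hx hy) (Z.inv_mem hx)) (Z.inv_mem hy)⟩
  obtain ⟨E, -, hEmax⟩ := (Set.toFinite {E | P E}).exists_le_maximal (a := Z) hP0
  obtain ⟨hEn, hZE, hEC, hEZ⟩ := hEmax.prop
  haveI := hEn
  have hgrow : ∀ E' : Subgroup A, P E' → E ≤ E' → E' ≤ E := fun E' h h' => hEmax.2 h h'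
  have hnle : ¬E ≤ Z := by
    intro h
    obtain ⟨E', hn, hle, hle', hz, hne⟩ := exists_layer hA hZC hCdef.le (hCdef ▸ hC)
    exact hne ((hgrow E' ⟨hn, hle, hle', hz⟩ (h.trans hle)).trans h)
  have hcen : ∀ x ∈ E, (∀ y ∈ E, Commute x y) → x ∈ Z := fun x hx hc =>
    hmax (E ⊓ Subgroup.centralizer (E : Set A)) inferInstance
      (fun a ha b hb => (Subgroup.mem_centralizer_iff.1 (Subgroup.mem_inf.1 hb).2 a
        (Subgroup.mem_inf.1 ha).1 : a * b = b * a))
      (le_inf hZE fun z hz => Subgroup.mem_centralizer_iff.2 fun y hy =>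
        (Subgroup.mem_centralizer_iff.1 (hCdef ▸ hEC hy) z hz).symm)
      ⟨hx, Subgroup.mem_centralizer_iff.2 fun y hy => (hc y hy).eq.symm⟩
  refine ⟨E, ⟨hEn, hZE, hCdef ▸ hEC, hEZ, hcen, ?_⟩, hnle⟩
  rw [← hCdef]
  intro c hc hcE
  let W := C ⊓ Subgroup.centralizer (E : Set A)
  have hWE : W ≤ Z := by
    by_contra hne
    have hZW : Z ≤ W := le_inf hZC fun z hz => Subgroup.mem_centralizer_iff.2 fun y hy =>
      (Subgroup.mem_centralizer_iff.1 (hCdef ▸ hEC hy) z hz).symm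
    obtain ⟨E', hn, hle, hle', hz, hne'⟩ :=
      exists_layer hA (W := W) hZW (inf_le_left.trans hCdef.le) hne
    haveI := hn
    have hE'E : E' ≤ E := by
      refine le_sup_right.trans (hgrow (E ⊔ E')
        ⟨inferInstance, hZE.trans le_sup_left, sup_le hEC (hle'.trans inf_le_left), ?_⟩ le_sup_left)
      intro x hx y hy
      have hx' : x ∈ ((E ⊔ E' : Subgroup A) : Set A) := hx
      have hy' : y ∈ ((E ⊔ E' : Subgroup A) : Set A) := hy
      rw [Subgroup.mul_normal, Set.mem_mul] at hx' hy'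
      obtain ⟨a, ha, a', ha', rfl⟩ := hx'
      obtain ⟨b, hb, b', hb', rfl⟩ := hy'
      have k1 : a' * b * a'⁻¹ = b := by
        rw [← Subgroup.mem_centralizer_iff.1 (hle' ha').2 b hb, mul_inv_cancel_right]
      have k2 : b' * a⁻¹ * b'⁻¹ = a⁻¹ := by
        rw [← Subgroup.mem_centralizer_iff.1 (hle' hb').2 a⁻¹ (E.inv_mem ha), mul_inv_cancel_right]
      have k3 : a * (a' * b' * a'⁻¹ * b'⁻¹) * a⁻¹ = a' * b' * a'⁻¹ * b'⁻¹ := by
        rw [← Subgroup.mem_centralizer_iff.1 (hCdef ▸ hEC ha) _ (hz a' ha' b' hb'), mul_inv_cancel_right]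
      have k4 : b * (a' * b' * a'⁻¹ * b'⁻¹) * b⁻¹ = a' * b' * a'⁻¹ * b'⁻¹ := by
        rw [← Subgroup.mem_centralizer_iff.1 (hCdef ▸ hEC hb) _ (hz a' ha' b' hb'), mul_inv_cancel_right]
      have e : a * a' * (b * b') * (a * a')⁻¹ * (b * b')⁻¹ =
          (a' * b' * a'⁻¹ * b'⁻¹) * (a * b * a⁻¹ * b⁻¹) := by
        calc a * a' * (b * b') * (a * a')⁻¹ * (b * b')⁻¹
            = a * (a' * b * a'⁻¹) * (a' * b' * a'⁻¹ * b'⁻¹) * (b' * a⁻¹ * b'⁻¹) * b⁻¹ := by group
          _ = a * (b * (a' * b' * a'⁻¹ * b'⁻¹) * b⁻¹) * b * a⁻¹ * b⁻¹ := by rw [k1, k2]; group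
          _ = a * (a' * b' * a'⁻¹ * b'⁻¹) * a⁻¹ * (a * b * a⁻¹ * b⁻¹) := by rw [k4]; group
          _ = (a' * b' * a'⁻¹ * b'⁻¹) * (a * b * a⁻¹ * b⁻¹) := by rw [k3]
      rw [e]
      exact Z.mul_mem (hz a' ha' b' hb') (hEZ a ha b hb)
    refine hne' fun x hx => hcen x (hE'E hx) fun y hy => ?_
    exact (Subgroup.mem_centralizer_iff.1 (hle' hx).2 y hy).symm
  -- the inner automorphisms exhaust the characters
  by_contra hcn
  let f : Option (E ⧸ Z.subgroupOf E) → A := fun i => i.elim c fun q => ((q.out : E) : A)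
  have hkey : ∀ g ∈ C, ∀ e ∈ E, (∀ n ∈ E, g * n * g⁻¹ = e * n * e⁻¹) → e⁻¹ * g ∈ Z := by
    intro g hg e he h
    refine hWE ⟨C.mul_mem (C.inv_mem (hEC he)) hg, Subgroup.mem_centralizer_iff.2 fun n hn => ?_⟩
    calc n * (e⁻¹ * g) = e⁻¹ * (e * n * e⁻¹) * g := by group
      _ = e⁻¹ * (g * n * g⁻¹) * g := by rw [h n hn]
      _ = e⁻¹ * g * n := by group
  have hle := card_conj_le ι hι E Z (hCdef ▸ hEC) f
    (fun i n hn => by
      cases i with
      | none => exact hcE n hn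
      | some q => exact hEZ _ (q.out).2 n hn)
    (fun i x hx => by
      have h1 : f i ∈ C := by
        cases i with
        | none => exact hc
        | some q => exact hEC (q.out).2
      rw [← Subgroup.mem_centralizer_iff.1 (hCdef ▸ h1) x hx, mul_inv_cancel_right])
    (fun i j h => by
      rcases i with _ | q <;> rcases j with _ | r
      · rfl
      · have h1 := hkey c hc _ (r.out).2 h
        exact absurd (by simpa using E.mul_mem (r.out).2 (hZE h1)) hcn
      · have h1 := hkey c hc _ (q.out).2 fun n hn => (h n hn).symm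
        exact absurd (by simpa using E.mul_mem (q.out).2 (hZE h1)) hcn
      · refine congrArg some ?_
        have h1 := hkey _ (hEC (r.out).2) _ (q.out).2 fun n hn => (h n hn).symm
        rw [← QuotientGroup.out_eq' q, ← QuotientGroup.out_eq' r]
        exact QuotientGroup.eq.2 (show ((q.out : E) : A)⁻¹ * (r.out : E) ∈ Z from h1))
  rw [Finite.card_option, Subgroup.relIndex, Subgroup.index_eq_card] at hle
  omega

variable {Z E : Subgroup A}

/-- The index of `Z` in `E` is a square. -/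
theorem Extra.exists_sq [Z.Normal] (hx : Extra Z E) (ι : Z →* K) (hι : Function.Injective ι) :
    ∃ s, Z.relIndex E = s * s := by
  classical
  let P : Subgroup A → Prop := fun L => Z ≤ L ∧ L ≤ E ∧ ∀ x ∈ L, ∀ y ∈ L, Commute x y
  have hP0 : P Z := ⟨le_rfl, hx.le, fun x h y h' =>
    (Subgroup.mem_centralizer_iff.1 (hx.le_centralizer (hx.le h')) x h)⟩
  obtain ⟨L, -, hLmax⟩ := (Set.toFinite {L | P L}).exists_le_maximal (a := Z) hP0
  obtain ⟨hZL, hLE, hLc⟩ := hLmax.prop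
  have hLC : L ≤ Subgroup.centralizer (Z : Set A) := hLE.trans hx.le_centralizer
  have hself : ∀ e ∈ E, (∀ l ∈ L, Commute e l) → e ∈ L := by
    intro e he hc
    let L' := Subgroup.closure ((L : Set A) ∪ {e})
    have hg : ∀ a ∈ ((L : Set A) ∪ {e}), ∀ b ∈ ((L : Set A) ∪ {e}), a * b = b * a := by
      rintro a (ha | rfl) b (hb | rfl)
      · exact hLc a ha b hb
      · exact (hc a ha).symm.eq
      · exact (hc b hb).eq
      · rfl
    have h1 : L' ≤ Subgroup.centralizer ((L : Set A) ∪ {e}) :=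
      (Subgroup.closure_le _).2 fun b hb => Subgroup.mem_centralizer_iff.2 fun a ha => hg a ha b hb
    have h2 : L' ≤ Subgroup.centralizer (L' : Set A) :=
      (Subgroup.closure_le _).2 fun b hb => Subgroup.mem_centralizer_iff.2 fun a ha =>
        (Subgroup.mem_centralizer_iff.1 (h1 ha) b hb).symm
    have hP' : P L' := ⟨hZL.trans fun l hl => Subgroup.subset_closure (Or.inl hl),
      (Subgroup.closure_le _).2 (Set.union_subset hLE (Set.singleton_subset_iff.2 he)),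
      fun a ha b hb => (Subgroup.mem_centralizer_iff.1 (h2 hb) a ha : a * b = b * a)⟩
    exact hLmax.2 hP' (fun l hl => Subgroup.subset_closure (Or.inl hl))
      (Subgroup.subset_closure (Or.inr rfl))
  haveI hLn : (L.subgroupOf E).Normal := ⟨fun l hl e => by
    show (e : A) * l * (e : A)⁻¹ ∈ L
    have h1 := hZL (hx.inZ e e.2 l (hLE hl))
    have h2 : (e : A) * l * (e : A)⁻¹ * (l : A)⁻¹ * (l : A) ∈ L := L.mul_mem h1 hl
    rwa [inv_mul_cancel_right] at h2⟩
  have hcomm : ∀ g ∈ Subgroup.centralizer (Z : Set A), ∀ x ∈ Z, g * x * g⁻¹ = x := fun g hg x h => by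
    rw [← Subgroup.mem_centralizer_iff.1 hg x h, mul_inv_cancel_right]
  have h1 : L.relIndex E ≤ Z.relIndex L := by
    have := card_conj_le ι hι L Z hLC (fun q : E ⧸ L.subgroupOf E => ((q.out : E) : A))
      (fun q n hn => hx.inZ _ q.out.2 n (hLE hn))
      (fun q x h => hcomm _ (hx.le_centralizer q.out.2) x h)
      (fun q r h => by
        rw [← QuotientGroup.out_eq' q, ← QuotientGroup.out_eq' r]
        refine QuotientGroup.eq.2 (hself _ (E.mul_mem (E.inv_mem q.out.2) r.out.2) fun l hl => ?_)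
        show ((q.out : E) : A)⁻¹ * (r.out : E) * l = l * (((q.out : E) : A)⁻¹ * (r.out : E))
        calc ((q.out : E) : A)⁻¹ * (r.out : E) * l
            = ((q.out : E) : A)⁻¹ * ((r.out : E) * l * ((r.out : E) : A)⁻¹) * (r.out : E) := by group
          _ = ((q.out : E) : A)⁻¹ * ((q.out : E) * l * ((q.out : E) : A)⁻¹) * (r.out : E) := by
            rw [h l hl]
          _ = l * (((q.out : E) : A)⁻¹ * (r.out : E)) := by group)
    rwa [← Subgroup.index_eq_card] at this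
  have h2 : Z.relIndex L ≤ L.relIndex E := by
    have := card_conj_le ι hι E L hx.le_centralizer (fun q : L ⧸ Z.subgroupOf L => ((q.out : L) : A))
      (fun q n hn => hx.inZ _ (hLE q.out.2) n hn)
      (fun q x h => by rw [(hLc _ q.out.2 x h).eq, mul_inv_cancel_right])
      (fun q r h => by
        rw [← QuotientGroup.out_eq' q, ← QuotientGroup.out_eq' r]
        refine QuotientGroup.eq.2 (hx.center_le _ (E.mul_mem (E.inv_mem (hLE q.out.2)) (hLE r.out.2))
          fun n hn => ?_)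
        show ((q.out : L) : A)⁻¹ * (r.out : L) * n = n * (((q.out : L) : A)⁻¹ * (r.out : L))
        calc ((q.out : L) : A)⁻¹ * (r.out : L) * n
            = ((q.out : L) : A)⁻¹ * ((r.out : L) * n * ((r.out : L) : A)⁻¹) * (r.out : L) := by group
          _ = ((q.out : L) : A)⁻¹ * ((q.out : L) * n * ((q.out : L) : A)⁻¹) * (r.out : L) := by
            rw [h n hn]
          _ = n * (((q.out : L) : A)⁻¹ * (r.out : L)) := by group)
    rwa [← Subgroup.index_eq_card] at this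
  exact ⟨Z.relIndex L, by rw [← Subgroup.relIndex_mul_relIndex Z L E hZL hLE, le_antisymm h1 h2]⟩

/-- An invariant part of the layer has an invariant complement. -/
theorem Extra.complement [Z.Normal] (hx : Extra Z E) (hmax : MaxAb Z) (ι : Z →* K)
    (hι : Function.Injective ι) {N : Subgroup A} [N.Normal] (hZN : Z ≤ N) (hNE : N ≤ E) :
    ∃ R : Subgroup A, R.Normal ∧ Z ≤ R ∧ R ≤ E ∧ N ⊓ R ≤ Z ∧ E ≤ N ⊔ R := by
  haveI := hx.normal
  let R := E ⊓ Subgroup.centralizer (N : Set A)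
  have hRn : R.Normal := inferInstance
  have hZR : Z ≤ R := le_inf hx.le fun z hz => Subgroup.mem_centralizer_iff.2 fun n hn =>
    (Subgroup.mem_centralizer_iff.1 (hx.le_centralizer (hNE hn)) z hz).symm
  have hint : N ⊓ R ≤ Z := hmax (N ⊓ R) inferInstance
    (fun a ha b hb => (Subgroup.mem_centralizer_iff.1 (Subgroup.mem_inf.1 (Subgroup.mem_inf.1 hb).2).2 a
      (Subgroup.mem_inf.1 ha).1 : a * b = b * a)) (le_inf hZN hZR)
  refine ⟨R, hRn, hZR, inf_le_left, hint, ?_⟩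
  have h1 : R.relIndex E ≤ Z.relIndex N := by
    have := card_conj_le ι hι N Z (hNE.trans hx.le_centralizer)
      (fun q : E ⧸ R.subgroupOf E => ((q.out : E) : A))
      (fun q n hn => hx.inZ _ q.out.2 n (hNE hn))
      (fun q x h => by
        rw [← Subgroup.mem_centralizer_iff.1 (hx.le_centralizer q.out.2) x h, mul_inv_cancel_right])
      (fun q r h => by
        rw [← QuotientGroup.out_eq' q, ← QuotientGroup.out_eq' r]
        refine QuotientGroup.eq.2 ⟨E.mul_mem (E.inv_mem q.out.2) r.out.2,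
          Subgroup.mem_centralizer_iff.2 fun n hn => ?_⟩
        show n * (((q.out : E) : A)⁻¹ * (r.out : E)) = ((q.out : E) : A)⁻¹ * (r.out : E) * n
        calc n * (((q.out : E) : A)⁻¹ * (r.out : E))
            = ((q.out : E) : A)⁻¹ * ((q.out : E) * n * ((q.out : E) : A)⁻¹) * (r.out : E) := by group
          _ = ((q.out : E) : A)⁻¹ * ((r.out : E) * n * ((r.out : E) : A)⁻¹) * (r.out : E) := by
            rw [h n hn]
          _ = ((q.out : E) : A)⁻¹ * (r.out : E) * n := by group)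
    rwa [← Subgroup.index_eq_card] at this
  have h2 : Z.relIndex N = R.relIndex (N ⊔ R) := by
    rw [show N ⊔ R = R ⊔ N from sup_comm _ _, Subgroup.relIndex_sup_left,
      ← Subgroup.inf_relIndex_right R N, show R ⊓ N = Z from
        le_antisymm (by rwa [inf_comm]) (le_inf hZR hZN)]
  have h3 := Subgroup.relIndex_mul_relIndex R (N ⊔ R) E le_sup_right (sup_le hNE inf_le_left)
  rw [← h3, h2] at h1
  have h4 : 0 < (N ⊔ R).relIndex E :=
    Nat.pos_of_ne_zero Subgroup.index_ne_zero_of_finite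
  have h5 : 0 < R.relIndex (N ⊔ R) := Nat.pos_of_ne_zero Subgroup.index_ne_zero_of_finite
  exact Subgroup.relIndex_eq_one.1
    (le_antisymm (Nat.le_of_mul_le_mul_left (by rwa [mul_one]) h5) h4)

end Cfsg.Agent.Solv.OddPair
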