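import Mathlib

/-!
Arithmetic for the primitive case.
-/

set_option autoImplicit false

namespace Cfsg.Agent.Solv.OddPair

theorem geom_convex {Q : ℕ} (hQ : 1 ≤ Q) {c M : ℕ} (h : c ≤ M) :
    M * (Q ^ c - 1) ≤ c * (Q ^ M - 1) := by
  induction M, h using Nat.le_induction with
  | base => exact le_rfl
  | succ M hM ih =>
    obtain ⟨a, ha⟩ : ∃ a, Q ^ c = a + 1 := ⟨Q ^ c - 1, by have := Nat.one_le_pow c Q hQ; omega⟩
    obtain ⟨b, hb⟩ : ∃ b, Q ^ M = b + 1 := ⟨Q ^ M - 1, by have := Nat.one_le_pow M Q hQ; omega⟩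
    have key : ∀ c, Q ^ c - 1 ≤ c * Q ^ c * (Q - 1) := by
      intro c
      induction c with
      | zero => simp
      | succ c ih =>
        obtain ⟨r, hr⟩ : ∃ r, Q = r + 1 := ⟨Q - 1, by omega⟩
        subst hr
        rw [Nat.add_sub_cancel] at ih ⊢
        have hpos := Nat.one_le_pow c (r + 1) hQ
        have h1 : (r + 1) ^ (c + 1) = (r + 1) ^ c * r + (r + 1) ^ c := by ring
        have h2 : (r + 1) ^ c * r ≤ (r + 1) ^ (c + 1) * r :=
          Nat.mul_le_mul_right _ (Nat.pow_le_pow_right hQ (Nat.le_succ c))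
        have h3 : c * (r + 1) ^ c * r ≤ c * (r + 1) ^ (c + 1) * r :=
          Nat.mul_le_mul_right _ (Nat.mul_le_mul_left c (Nat.pow_le_pow_right hQ (Nat.le_succ c)))
        have h4 : (c + 1) * (r + 1) ^ (c + 1) * r = c * (r + 1) ^ (c + 1) * r + (r + 1) ^ (c + 1) * r := by
          ring
        omega
    have h1 : a ≤ c * Q ^ M * (Q - 1) := by
      have h := key c
      rw [ha, Nat.add_sub_cancel] at h
      refine h.trans ?_
      rw [← ha]
      exact Nat.mul_le_mul_right _ (Nat.mul_le_mul_left c (Nat.pow_le_pow_right hQ hM))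
    have h2 : Q ^ (M + 1) - 1 = b + Q ^ M * (Q - 1) := by
      obtain ⟨r, hr⟩ : ∃ r, Q = r + 1 := ⟨Q - 1, by omega⟩
      have h3 : Q ^ (M + 1) = Q ^ M * (Q - 1) + Q ^ M := by
        rw [hr, Nat.add_sub_cancel]; ring
      omega
    rw [h2]
    rw [ha, hb, Nat.add_sub_cancel, Nat.add_sub_cancel] at ih
    rw [ha, Nat.add_sub_cancel, add_mul, one_mul, mul_add, ← mul_assoc]
    omega

/-- A convexity bound. -/
theorem sum_sq_pow_le {ι : Type*} [Fintype ι] {q d M : ℕ} (hq : 1 ≤ q) (c : ι → ℕ)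
    (hsum : ∑ i, c i ≤ d) (hc : ∀ i, c i ≤ M) (hdM : d ≤ 2 * M) (hM : 0 < M) :
    ∑ i, ((q ^ c i) ^ 2 - 1) ≤ 2 * q ^ (2 * M) := by
  have hQ : 1 ≤ q ^ 2 := Nat.one_le_pow 2 q hq
  have h1 : ∀ i, (q ^ c i) ^ 2 = (q ^ 2) ^ c i := fun i => by rw [← pow_mul, ← pow_mul, mul_comm]
  refine Nat.le_of_mul_le_mul_left ?_ hM
  calc M * ∑ i, ((q ^ c i) ^ 2 - 1) = ∑ i, M * ((q ^ 2) ^ c i - 1) := by
        rw [Finset.mul_sum]; simp only [h1]
    _ ≤ ∑ i, c i * ((q ^ 2) ^ M - 1) := Finset.sum_le_sum fun i _ => geom_convex hQ (hc i)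
    _ = (∑ i, c i) * ((q ^ 2) ^ M - 1) := by rw [Finset.sum_mul]
    _ ≤ (2 * M) * (q ^ 2) ^ M := Nat.mul_le_mul (hsum.trans hdM) (Nat.sub_le _ _)
    _ = M * (2 * q ^ (2 * M)) := by rw [← pow_mul]; ring

theorem sixth_le (j : ℕ) (hj : 7 ≤ j) : 3645 * j ^ 6 ≤ 4 * 16 ^ j := by
  induction j, hj using Nat.le_induction with
  | base => norm_num
  | succ j hj ih =>
    have h1 : (7 * (j + 1)) ^ 6 ≤ (8 * j) ^ 6 := Nat.pow_le_pow_left (by omega) 6
    rw [mul_pow, mul_pow] at h1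
    rw [pow_succ 16 j]
    norm_num at h1 ⊢
    omega

/-- The hypotheses on the numbers of the primitive case. -/
structure Params (s G q : ℕ) : Prop where
  odd : Odd s
  three : 3 ≤ s
  pp : IsPrimePow q
  div : ∀ l, l.Prime → l ∣ s → l ∣ q - 1
  bound : 8 * G ≤ s * s * (s * s)
  g3 : s = 3 → G = 1
  g9 : s = 9 → G ≤ 39

theorem Params.q_gt {s G q : ℕ} (h : Params s G q) {l : ℕ} (hl : l.Prime) (hls : l ∣ s) : l + 1 ≤ q := by
  have h1 := h.div l hl hls
  have h2 := h.pp.two_le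
  have := Nat.le_of_dvd (by omega) h1
  omega

theorem Params.q_four {s G q : ℕ} (h : Params s G q) : 4 ≤ q := by
  obtain ⟨l, hl, hls⟩ := Nat.exists_prime_and_dvd (show s ≠ 1 by have := h.three; omega)
  obtain ⟨t, ht⟩ := h.odd.of_dvd_nat hls
  have := hl.two_le
  have := h.q_gt hl hls
  omega

theorem Params.five {G q : ℕ} (h : Params 5 G q) : 11 ≤ q := by
  have h1 := h.div 5 Nat.prime_five (dvd_refl 5)
  have h2 := h.q_four
  have hne : q ≠ 6 := fun h6 => by
    have h3 := h.pp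
    rw [h6, isPrimePow_nat_iff_bounded] at h3
    obtain ⟨p, hp, k, hk, hp', -, e⟩ := h3
    interval_cases p <;> first
      | exact absurd hp' (by decide)
      | (interval_cases k <;> simp at e)
  obtain ⟨t, ht⟩ := h1
  omega

/-- The main term is at most four fifths. -/
theorem Params.main {s G q : ℕ} (h : Params s G q) :
    5 * (s * s * G) ≤ 4 * q ^ (2 * ((s + 2) / 3)) := by
  have h4 := h.q_four
  have hb := h.bound
  have mono : ∀ {N b : ℕ}, b ≤ q → 5 * (s * s * G) ≤ N → N ≤ 4 * b ^ (2 * ((s + 2) / 3)) →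
      5 * (s * s * G) ≤ 4 * q ^ (2 * ((s + 2) / 3)) := fun hbq h1 h2 =>
    h1.trans (h2.trans (Nat.mul_le_mul_left 4 (Nat.pow_le_pow_left hbq _)))
  by_cases h21 : 21 ≤ s
  · obtain ⟨j, hj⟩ : ∃ j, j = (s + 2) / 3 := ⟨_, rfl⟩
    rw [← hj]
    have hs : s ≤ 3 * j := by omega
    calc 5 * (s * s * G) ≤ 5 * (s * s * (s * s * (s * s))) :=
          Nat.mul_le_mul_left 5 (Nat.mul_le_mul_left _ (by omega))
      _ = 5 * s ^ 6 := by ring
      _ ≤ 5 * (3 * j) ^ 6 := Nat.mul_le_mul_left 5 (Nat.pow_le_pow_left hs 6)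
      _ = 3645 * j ^ 6 := by ring
      _ ≤ 4 * 16 ^ j := sixth_le j (by omega)
      _ = 4 * 4 ^ (2 * j) := by rw [pow_mul]; norm_num
      _ ≤ 4 * q ^ (2 * j) := Nat.mul_le_mul_left 4 (Nat.pow_le_pow_left h4 _)
  obtain ⟨t, ht⟩ := h.odd
  have h3 := h.three
  have h20 : t ≤ 9 := by omega
  have h1 : 1 ≤ t := by omega
  interval_cases t <;> subst ht
  · exact mono (N := 45) h4 (by rw [h.g3 rfl]; norm_num) (by norm_num)
  · exact mono (N := 9750) (Params.five h) (by omega) (by norm_num)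
  · exact mono (N := 73525) (h.q_gt (l := 7) (by norm_num) (by norm_num)) (by omega) (by norm_num)
  · exact mono (N := 15795) h4 (by have := h.g9 rfl; omega) (by norm_num)
  · exact mono (N := 1107226) (h.q_gt (l := 11) (by norm_num) (by norm_num)) (by omega) (by norm_num)
  · exact mono (N := 3016756) (h.q_gt (l := 13) (by norm_num) (by norm_num)) (by omega) (by norm_num)
  · exact mono (N := 7119141) (h.q_gt (l := 5) (by norm_num) (by norm_num)) (by omega) (by norm_num)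
  · exact mono (N := 15085982) (h.q_gt (l := 17) (by norm_num) (by norm_num)) (by omega) (by norm_num)
  · exact mono (N := 29403676) (h.q_gt (l := 19) (by norm_num) (by norm_num)) (by omega) (by norm_num)

/-- The outer part is small. -/
theorem Params.outer {s G q k p f : ℕ} (h : Params s G q) (hk : 3 ≤ k) (hp : p.Prime) (hq : q = p ^ f)
    (hkf : k ≤ f) : 4 * (k * (q - 1) * (s * s * G)) ≤ q ^ s := by
  have h4 := h.q_four
  have hpk : p ^ k ≤ q := hq ▸ Nat.pow_le_pow_right hp.pos hkf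
  have h2k : 2 ^ k ≤ q := (Nat.pow_le_pow_left hp.two_le k).trans hpk
  have hkq : 2 * k ≤ q := by
    refine le_trans ?_ h2k
    clear * - hk
    induction k, hk using Nat.le_induction with
    | base => norm_num
    | succ k hk ih => rw [pow_succ]; omega
  have hq8 : 8 ≤ q := le_trans (le_trans (by norm_num) (Nat.pow_le_pow_right (by norm_num) hk)) h2k
  have hb := h.bound
  have hq1 : q - 1 ≤ q := Nat.sub_le q 1
  have step : ∀ N, 2 * (s * s * G) ≤ N → N * (q * q) ≤ q ^ s →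
      4 * (k * (q - 1) * (s * s * G)) ≤ q ^ s := by
    intro N hN hle
    refine le_trans ?_ hle
    calc 4 * (k * (q - 1) * (s * s * G)) = (2 * k) * (q - 1) * (2 * (s * s * G)) := by ring
      _ ≤ q * q * N := Nat.mul_le_mul (Nat.mul_le_mul hkq hq1) hN
      _ = N * (q * q) := by ring
  have low : ∀ {N b : ℕ}, b ≤ q → 2 * (s * s * G) ≤ N → N ≤ b ^ (s - 2) → 2 ≤ s →
      4 * (k * (q - 1) * (s * s * G)) ≤ q ^ s := fun {N b} hbq h1 h2 hs => step N h1 (by
    calc N * (q * q) ≤ q ^ (s - 2) * (q * q) :=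
          Nat.mul_le_mul_right _ (h2.trans (Nat.pow_le_pow_left hbq _))
      _ = q ^ s := by rw [← pow_two, ← pow_add]; congr 1; omega)
  by_cases h11 : 11 ≤ s
  · refine step _ le_rfl ?_
    obtain ⟨j, hj⟩ : ∃ j, j = (s + 2) / 3 := ⟨_, rfl⟩
    have hm := h.main
    rw [← hj] at hm
    have hexp : 2 * j + 3 ≤ s := by obtain ⟨t, ht⟩ := h.odd; omega
    calc 2 * (s * s * G) * (q * q) ≤ q ^ (2 * j) * q * (q * q) :=
          Nat.mul_le_mul_right _ (by
            calc 2 * (s * s * G) ≤ 2 * q ^ (2 * j) := by omega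
              _ ≤ q * q ^ (2 * j) := Nat.mul_le_mul_right _ (by omega)
              _ = q ^ (2 * j) * q := mul_comm _ _)
      _ = q ^ (2 * j + 3) := by ring
      _ ≤ q ^ s := Nat.pow_le_pow_right (by omega) hexp
  have h16 : 3 ∣ q - 1 ∨ 5 ∣ q - 1 → 16 ≤ q := by
    intro hd
    rcases Nat.lt_or_ge p 3 with h3 | h3
    · have hp2 : p = 2 := by have := hp.two_le; omega
      subst hp2
      rcases Nat.eq_or_lt_of_le (hk.trans hkf) with h' | h'
      · subst h'
        rw [hq] at hd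
        norm_num at hd
      · exact le_trans (by norm_num) (le_trans (Nat.pow_le_pow_right (by norm_num) (h' : 4 ≤ f)) hq.ge)
    · exact le_trans (le_trans (by norm_num) (Nat.pow_le_pow_left h3 3))
        (le_trans (Nat.pow_le_pow_right hp.pos (hk.trans hkf)) hq.ge)
  obtain ⟨t, ht⟩ := h.odd
  have h3 := h.three
  have h5 : t ≤ 4 := by omega
  have h1 : 1 ≤ t := by omega
  interval_cases t <;> subst ht
  · have h6 := h16 (Or.inl (h.div 3 Nat.prime_three (by norm_num)))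
    rw [h.g3 rfl]
    by_cases h18 : 18 ≤ q
    · rw [h.g3 rfl] at low
      exact low (N := 18) h18 (by norm_num) (by norm_num) (by norm_num)
    · have hk4 : k ≤ 4 := by
        by_contra hk5
        have := (Nat.pow_le_pow_right (by norm_num : 0 < 2) (Nat.lt_of_not_le hk5)).trans h2k
        norm_num at this
        omega
      calc 4 * (k * (q - 1) * (3 * 3 * 1)) ≤ 4 * (4 * q * 9) :=
            Nat.mul_le_mul_left 4 (Nat.mul_le_mul (Nat.mul_le_mul hk4 hq1) le_rfl)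
        _ ≤ q ^ 3 := by nlinarith [Nat.mul_le_mul h6 h6]
  · exact low (N := 3900) (h16 (Or.inr (h.div 5 Nat.prime_five (by norm_num)))) (by omega)
      (by norm_num) (by norm_num)
  · exact low (N := 29410) hq8 (by omega) (by norm_num) (by norm_num)
  · exact low (N := 6318) h4 (by have := h.g9 rfl; omega) (by norm_num) (by norm_num)

/-- The counting is contradictory. -/
theorem Params.contra {s G q d cm X S : ℕ} (h : Params s G q) (hd : s ≤ d) (hcm : 3 * cm ≤ 2 * d)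
    (hS : 2 * ((q ^ d) ^ 2 - 1) ≤ S + X) (hS' : S ≤ 2 * (s * s * G) * q ^ (2 * cm))
    (hX : 4 * X ≤ (q ^ d) ^ 2) : False := by
  have h4 := h.q_four
  have hm := h.main
  obtain ⟨j, hj⟩ : ∃ j, j = (s + 2) / 3 := ⟨_, rfl⟩
  rw [← hj] at hm
  have h1 : 5 * (s * s * G) * q ^ (2 * cm) ≤ 4 * (q ^ d) ^ 2 :=
    calc 5 * (s * s * G) * q ^ (2 * cm) ≤ 4 * q ^ (2 * j) * q ^ (2 * cm) := Nat.mul_le_mul_right _ hm
      _ = 4 * q ^ (2 * j + 2 * cm) := by ring
      _ ≤ 4 * q ^ (d * 2) := Nat.mul_le_mul_left 4 (Nat.pow_le_pow_right (by omega) (by omega))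
      _ = 4 * (q ^ d) ^ 2 := by rw [pow_mul]
  have h16 : 16 ≤ (q ^ d) ^ 2 := by
    rw [← pow_mul]
    exact le_trans (by norm_num)
      (le_trans (Nat.pow_le_pow_left h4 2) (Nat.pow_le_pow_right (by omega) (by have := h.three; omega)))
  obtain ⟨W, hW⟩ : ∃ W, W = s * s * G * q ^ (2 * cm) := ⟨_, rfl⟩
  rw [mul_assoc, ← hW] at hS'
  rw [mul_assoc, ← hW] at h1
  omega

end Cfsg.Agent.Solv.OddPair
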