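import Cfsg.Agent.Lib.Solv.OddPair.Blocks
import Cfsg.Agent.Lib.Solv.OddPair.Arith

/-!
Fixed subspaces and the counting of pairs.
-/

set_option autoImplicit false
set_option linter.unusedSectionVars false
set_option linter.style.haveILetI false

namespace Cfsg.Agent.Solv.OddPair

universe u v w

variable {A : Type u} (V : Type v) [Group A] [AddCommGroup V] [DistribMulAction A V]

/-- The fixed vectors of an element. -/
def fixV (g : A) : AddSubgroup V where
  carrier := {x | g • x = x}
  zero_mem' := smul_zero g
  add_mem' := fun {a b} (ha : g • a = a) (hb : g • b = b) => show g • (a + b) = a + b by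
    rw [smul_add, ha, hb]
  neg_mem' := fun {a} (ha : g • a = a) => show g • -a = -a by rw [smul_neg, ha]

/-- The number of fixed vectors. -/
noncomputable def fx (g : A) : ℕ := Nat.card (fixV V g)

variable {V}

theorem mem_fixV {g : A} {x : V} : x ∈ fixV V g ↔ g • x = x := Iff.rfl

theorem fx_pos [Finite V] (g : A) : 1 ≤ fx V g := Nat.card_pos

theorem fx_conj (g h : A) : fx V (h * g * h⁻¹) = fx V g := by
  refine Nat.card_congr
    { toFun := fun x => ⟨h⁻¹ • (x : V), ?_⟩
      invFun := fun x => ⟨h • (x : V), ?_⟩
      left_inv := fun x => Subtype.ext (smul_inv_smul h (x : V))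
      right_inv := fun x => Subtype.ext (inv_smul_smul h (x : V)) }
  · have h1 : (h * g * h⁻¹) • (x : V) = x := x.2
    rw [mul_smul, mul_smul, ← eq_inv_smul_iff] at h1
    exact h1
  · show (h * g * h⁻¹) • h • (x : V) = h • (x : V)
    rw [mul_smul, mul_smul, inv_smul_smul, show g • (x : V) = x from x.2]

/-- Two conjugate fixed spaces meet inside the fixed space of the commutator. -/
theorem sq_fx_le [Finite V] (g h : A) :
    fx V g ^ 2 ≤ Nat.card V * fx V (h⁻¹ * g * h * g⁻¹) := by
  let F := fixV V g
  let Φ : F × F →+ V :=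
    { toFun := fun p => (p.1 : V) + h • (p.2 : V)
      map_zero' := by simp
      map_add' := fun p p' => by
        simp only [Prod.fst_add, Prod.snd_add, AddSubgroup.coe_add, smul_add]
        abel }
  have hker : Nat.card Φ.ker ≤ fx V (h⁻¹ * g * h * g⁻¹) := by
    refine Nat.card_le_card_of_injective (fun p : Φ.ker => (⟨((p : F × F).2 : V), ?_⟩ :
      fixV V (h⁻¹ * g * h * g⁻¹))) fun p p' hp => ?_
    · have h1 : ((p : F × F).1 : V) + h • ((p : F × F).2 : V) = 0 := p.2
      have h2 : g • ((p : F × F).2 : V) = (p : F × F).2 := (p : F × F).2.2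
      have h3 : g • h • ((p : F × F).2 : V) = h • ((p : F × F).2 : V) := by
        rw [show h • ((p : F × F).2 : V) = -((p : F × F).1 : V) from eq_neg_of_add_eq_zero_right h1,
          smul_neg, show g • ((p : F × F).1 : V) = (p : F × F).1 from (p : F × F).1.2]
      show (h⁻¹ * g * h * g⁻¹) • ((p : F × F).2 : V) = (p : F × F).2
      rw [mul_smul, mul_smul, mul_smul, inv_smul_eq_iff.2 h2.symm, h3, inv_smul_smul]
    · have e2 : ((p : F × F).2 : V) = (p' : F × F).2 := (congrArg Subtype.val hp :)
      have h1 : ((p : F × F).1 : V) + h • ((p : F × F).2 : V) = 0 := p.2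
      have h1' : ((p' : F × F).1 : V) + h • ((p' : F × F).2 : V) = 0 := p'.2
      rw [e2] at h1
      exact Subtype.ext (Prod.ext (Subtype.ext (add_right_cancel (h1.trans h1'.symm))) (Subtype.ext e2))
  calc fx V g ^ 2 = Nat.card (F × F) := by rw [Nat.card_prod, pow_two]; rfl
    _ = Nat.card Φ.ker * Φ.ker.index := (AddSubgroup.card_mul_index _).symm
    _ ≤ fx V (h⁻¹ * g * h * g⁻¹) * Nat.card V := by
        refine Nat.mul_le_mul hker ?_
        rw [AddSubgroup.index_ker]
        exact Finite.card_subtype_le _
    _ = Nat.card V * fx V (h⁻¹ * g * h * g⁻¹) := mul_comm _ _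

/-- Without a base, every nonzero pair is fixed by two nontrivial elements. -/
theorem pairs_le [Fintype A] [DecidableEq A] [Finite V] (hA : Odd (Nat.card A))
    (hf : ∀ a : A, (∀ x : V, a • x = x) → a = 1) (hno : ¬Base A V) :
    2 * (Nat.card V ^ 2 - 1) ≤ ∑ g ∈ Finset.univ.erase (1 : A), (fx V g ^ 2 - 1) := by
  classical
  haveI := Fintype.ofFinite V
  let P : Finset (V × V) := Finset.univ.erase (0, 0)
  let R : A → V × V → Prop := fun g p => g • p.1 = p.1 ∧ g • p.2 = p.2
  have hP : P.card = Nat.card V ^ 2 - 1 := by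
    rw [Finset.card_erase_of_mem (Finset.mem_univ _), Finset.card_univ, Fintype.card_prod,
      ← Nat.card_eq_fintype_card, pow_two]
  have hcount : ∀ g : A, (P.filter fun p => R g p).card = fx V g ^ 2 - 1 := by
    intro g
    have h1 : (Finset.univ.filter fun p => R g p).card = fx V g ^ 2 := by
      rw [← Fintype.card_subtype, ← Nat.card_eq_fintype_card, pow_two, fx, ← Nat.card_prod]
      exact Nat.card_congr
        { toFun := fun p => (⟨p.1.1, p.2.1⟩, ⟨p.1.2, p.2.2⟩)
          invFun := fun p => ⟨(p.1, p.2), p.1.2, p.2.2⟩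
          left_inv := fun p => rfl
          right_inv := fun p => rfl }
    rw [← h1, show (P.filter fun p => R g p) = (Finset.univ.filter fun p => R g p).erase (0, 0) from
      Finset.filter_erase _ _ _, Finset.card_erase_of_mem (Finset.mem_filter.2
        ⟨Finset.mem_univ _, smul_zero g, smul_zero g⟩)]
  have h2 : ∀ p ∈ P, 2 ≤ ((Finset.univ.erase (1 : A)).filter fun g => R g p).card := by
    intro p _
    obtain ⟨a, ha, hb, hne⟩ : ∃ a : A, a • p.1 = p.1 ∧ a • p.2 = p.2 ∧ a ≠ 1 := by
      by_contra hc
      refine hno ⟨p.1, p.2, fun a ha hb => ?_⟩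
      have h : a = 1 := by
        by_contra h
        exact hc ⟨a, ha, hb, h⟩
      intro x
      rw [h, one_smul]
    have hne' : a ≠ a⁻¹ := fun h => hne (hf a fun x => fix_of_sq hA (by
      rw [← mul_smul]; nth_rewrite 2 [h]; rw [mul_inv_cancel, one_smul]))
    calc 2 = ({a, a⁻¹} : Finset A).card := (Finset.card_pair hne').symm
      _ ≤ _ := Finset.card_le_card fun g hg => by
        simp only [Finset.mem_insert, Finset.mem_singleton] at hg
        refine Finset.mem_filter.2 ⟨Finset.mem_erase.2 ⟨?_, Finset.mem_univ _⟩, ?_⟩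
        · rcases hg with rfl | rfl
          · exact hne
          · exact inv_ne_one.2 hne
        · rcases hg with rfl | rfl
          · exact ⟨ha, hb⟩
          · exact ⟨by rw [inv_smul_eq_iff, ha], by rw [inv_smul_eq_iff, hb]⟩
  calc 2 * (Nat.card V ^ 2 - 1) = ∑ _p ∈ P, 2 := by rw [Finset.sum_const, hP, smul_eq_mul, mul_comm]
    _ ≤ ∑ p ∈ P, ((Finset.univ.erase (1 : A)).filter fun g => R g p).card := Finset.sum_le_sum h2
    _ = ∑ g ∈ Finset.univ.erase (1 : A), (P.filter fun p => R g p).card := by
        simp only [Finset.card_filter]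
        exact Finset.sum_comm
    _ = _ := Finset.sum_congr rfl fun g _ => hcount g

/-- Eigenspaces of distinct eigenvalues have dimensions adding up to at most the whole. -/
theorem sum_eigen_le {K : Type w} [Field K] [Module K V] [FiniteDimensional K V] (f : Module.End K V)
    {ι : Type*} (s : Finset ι) (μ : ι → K) (hμ : Function.Injective μ) :
    ∑ i ∈ s, Module.finrank K (f.eigenspace (μ i)) ≤ Module.finrank K V := by
  classical
  have hind : iSupIndep fun i => f.eigenspace (μ i) := f.eigenspaces_iSupIndep.comp hμ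
  have key : ∀ s : Finset ι,
      Module.finrank K ↥(s.sup fun i => f.eigenspace (μ i)) =
        ∑ i ∈ s, Module.finrank K (f.eigenspace (μ i)) := by
    intro s
    induction s using Finset.induction_on with
    | empty => simp
    | insert i s hi ih =>
      rw [Finset.sup_insert, Finset.sum_insert hi, ← ih]
      have hd : Disjoint (f.eigenspace (μ i)) (s.sup fun i => f.eigenspace (μ i)) := by
        rw [Finset.sup_eq_iSup]
        exact hind.disjoint_biSup (y := {j | j ∈ s}) hi
      have h := Submodule.finrank_sup_add_finrank_inf_eq (f.eigenspace (μ i))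
        (s.sup fun i => f.eigenspace (μ i))
      rw [hd.eq_bot, finrank_bot, add_zero] at h
      exact h
  rw [← key]
  exact Submodule.finrank_le _

/-- Vectors with distinct characters are linearly independent. -/
theorem eigvec_indep {K : Type w} [Field K] {M : Type*} [Monoid M] {W : Type*} [AddCommGroup W]
    [Module K W] {ι : Type*} (χ : ι → M →* K) (hχ : Function.Injective χ) (L : M → W →ₗ[K] W)
    (t : ι → W) (ht : ∀ i, t i ≠ 0) (hL : ∀ h i, L h (t i) = χ i h • t i) :
    LinearIndependent K t := by
  classical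
  rw [linearIndependent_iff']
  intro s a hsum i hi
  have hLI := (linearIndependent_monoidHom M K).comp χ hχ
  rw [linearIndependent_iff'] at hLI
  have hφ : ∀ φ : W →ₗ[K] K, a i * φ (t i) = 0 := by
    intro φ
    refine hLI s (fun j => a j * φ (t j)) ?_ i hi
    funext h
    have h1 := congrArg (fun w => φ (L h w)) hsum
    simp only [map_sum, map_smul, map_zero, hL, smul_eq_mul] at h1
    rw [Finset.sum_apply, Pi.zero_apply, ← h1]
    refine Finset.sum_congr rfl fun j _ => ?_
    simp only [Function.comp_apply, Pi.smul_apply, smul_eq_mul]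
    ring
  by_contra hne
  refine ht i ((Module.forall_dual_apply_eq_zero_iff K (t i)).1 fun φ => ?_)
  exact (mul_eq_zero.1 (hφ φ)).resolve_left hne

end Cfsg.Agent.Solv.OddPair
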