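import Mathlib

/-!
Bases of size two for groups of odd order acting completely reducibly: generalities and bounds.
-/

set_option autoImplicit false
set_option linter.unusedSectionVars false
set_option linter.style.haveILetI false

namespace Cfsg.Agent.Solv.OddPair

universe u v

variable (A : Type u) (V : Type v) [Group A] [AddCommGroup V] [DistribMulAction A V]

/-- Two vectors fixed simultaneously only by the kernel. -/
def Base : Prop := ∃ v w : V, ∀ a : A, a • v = v → a • w = w → ∀ x : V, a • x = x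

/-- Every invariant subgroup has an invariant complement. -/
def CR : Prop := ∀ U : AddSubgroup V, (∀ a : A, ∀ x ∈ U, a • x ∈ U) →
  ∃ W : AddSubgroup V, (∀ a : A, ∀ x ∈ W, a • x ∈ W) ∧ U ⊓ W = ⊥ ∧ U ⊔ W = ⊤

/-- The kernel of the action. -/
def kerV : Subgroup A where
  carrier := {a | ∀ x : V, a • x = x}
  one_mem' := one_smul A
  mul_mem' := fun {a b} ha hb x => by rw [mul_smul, hb, ha]
  inv_mem' := fun {a} ha x => by rw [inv_smul_eq_iff, ha]

variable {A V}

theorem mem_kerV {a : A} : a ∈ kerV A V ↔ ∀ x : V, a • x = x := Iff.rfl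

instance kerV_normal : (kerV A V).Normal :=
  ⟨fun n hn g x => by rw [mul_smul, mul_smul, hn (g⁻¹ • x), smul_inv_smul]⟩

/-- The action on an invariant subgroup. -/
@[reducible] def subAct (U : AddSubgroup V) (hU : ∀ a : A, ∀ x ∈ U, a • x ∈ U) :
    DistribMulAction A U where
  smul a x := ⟨a • (x : V), hU a x x.2⟩
  one_smul x := Subtype.ext (one_smul A (x : V))
  mul_smul a b x := Subtype.ext (mul_smul a b (x : V))
  smul_zero a := Subtype.ext (smul_zero a)
  smul_add a x y := Subtype.ext (smul_add a (x : V) (y : V))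

theorem cr_sub (h : CR A V) (U : AddSubgroup V) (hU : ∀ a : A, ∀ x ∈ U, a • x ∈ U) :
    letI := subAct U hU; CR A U := by
  letI := subAct U hU
  intro X hX
  obtain ⟨W, hW, hd, hs⟩ := h (X.map U.subtype) (by
    rintro a _ ⟨x, hx, rfl⟩
    exact ⟨a • x, hX a x hx, rfl⟩)
  refine ⟨W.comap U.subtype, fun a x hx => hW a _ hx, ?_, ?_⟩
  · refine (AddSubgroup.eq_bot_iff_forall _).2 fun x hx => Subtype.ext ?_
    have h1 : (x : V) ∈ X.map U.subtype ⊓ W :=
      AddSubgroup.mem_inf.2 ⟨⟨x, (AddSubgroup.mem_inf.1 hx).1, rfl⟩, (AddSubgroup.mem_inf.1 hx).2⟩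
    rw [hd] at h1
    exact AddSubgroup.mem_bot.1 h1
  · refine eq_top_iff.2 fun x _ => ?_
    have h1 : (x : V) ∈ X.map U.subtype ⊔ W := hs ▸ AddSubgroup.mem_top _
    obtain ⟨_, ⟨y, hy, rfl⟩, z, hz, hyz⟩ := AddSubgroup.mem_sup.1 h1
    have hzU : z ∈ U := by
      have h2 := U.sub_mem x.2 y.2
      rwa [← hyz, show U.subtype y = (y : V) from rfl, add_sub_cancel_left] at h2
    exact AddSubgroup.mem_sup.2 ⟨y, hy, ⟨z, hzU⟩, hz, Subtype.ext hyz⟩

/-- An irreducible action is completely reducible. -/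
theorem cr_of_irred (h : ∀ U : AddSubgroup V, (∀ a : A, ∀ x ∈ U, a • x ∈ U) → U = ⊥ ∨ U = ⊤) :
    CR A V := fun U hU => by
  rcases h U hU with rfl | rfl
  · exact ⟨⊤, fun _ _ _ => AddSubgroup.mem_top _, bot_inf_eq _, bot_sup_eq _⟩
  · exact ⟨⊥, fun a x hx => by rw [AddSubgroup.mem_bot] at hx ⊢; rw [hx, smul_zero],
      inf_bot_eq _, sup_bot_eq _⟩

/-- Base pairs of two complementary invariant subgroups combine. -/
theorem base_of_compl {U W : AddSubgroup V} (hU : ∀ a : A, ∀ x ∈ U, a • x ∈ U)
    (hW : ∀ a : A, ∀ x ∈ W, a • x ∈ W) (hd : U ⊓ W = ⊥) (hs : U ⊔ W = ⊤)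
    (bU : letI := subAct U hU; Base A U) (bW : letI := subAct W hW; Base A W) : Base A V := by
  obtain ⟨v₁, w₁, h₁⟩ := bU
  obtain ⟨v₂, w₂, h₂⟩ := bW
  refine ⟨v₁ + v₂, w₁ + w₂, fun a ha hb x => ?_⟩
  have key : ∀ (p : U) (q : W), a • ((p : V) + q) = p + q → a • (p : V) = p ∧ a • (q : V) = q := by
    intro p q hpq
    rw [smul_add] at hpq
    have h0 : a • (p : V) - p ∈ U ⊓ W := AddSubgroup.mem_inf.2 ⟨U.sub_mem (hU a p p.2) p.2, by
      rw [show a • (p : V) - p = (q : V) - a • (q : V) by
        rw [sub_eq_sub_iff_add_eq_add, hpq, add_comm]]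
      exact W.sub_mem q.2 (hW a q q.2)⟩
    rw [hd, AddSubgroup.mem_bot, sub_eq_zero] at h0
    rw [h0] at hpq
    exact ⟨h0, add_left_cancel hpq⟩
  obtain ⟨a1, a2⟩ := key v₁ v₂ ha
  obtain ⟨b1, b2⟩ := key w₁ w₂ hb
  have hx : x ∈ U ⊔ W := hs ▸ AddSubgroup.mem_top x
  obtain ⟨p, hp, q, hq, rfl⟩ := AddSubgroup.mem_sup.1 hx
  rw [smul_add, show a • p = p from congrArg Subtype.val (h₁ a (Subtype.ext a1) (Subtype.ext b1) ⟨p, hp⟩),
    show a • q = q from congrArg Subtype.val (h₂ a (Subtype.ext a2) (Subtype.ext b2) ⟨q, hq⟩)]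

/-! ### The faithful quotient -/

/-- The action of the quotient by the kernel. -/
@[reducible] def quotAct : DistribMulAction (A ⧸ kerV A V) V where
  smul a x := Quotient.liftOn' a (fun g => g • x) fun g g' hg => by
    rw [QuotientGroup.leftRel_apply] at hg
    calc g • x = g • ((g⁻¹ * g') • x) := by rw [hg x]
      _ = g' • x := by rw [← mul_smul, mul_inv_cancel_left]
  one_smul x := one_smul A x
  mul_smul a b x := Quotient.inductionOn₂' a b fun g g' => mul_smul g g' x
  smul_zero a := Quotient.inductionOn' a fun g => smul_zero g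
  smul_add a x y := Quotient.inductionOn' a fun g => smul_add g x y

theorem quot_smul (g : A) (x : V) :
    letI := quotAct (A := A) (V := V); (g : A ⧸ kerV A V) • x = g • x := rfl

theorem quot_faithful (a : A ⧸ kerV A V)
    (h : letI := quotAct (A := A) (V := V); ∀ x : V, a • x = x) : a = 1 := by
  obtain ⟨g, rfl⟩ := QuotientGroup.mk_surjective a
  exact (QuotientGroup.eq_one_iff g).2 h

theorem cr_quot (h : CR A V) : letI := quotAct (A := A) (V := V); CR (A ⧸ kerV A V) V := by
  letI := quotAct (A := A) (V := V)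
  intro U hU
  obtain ⟨W, hW, hd⟩ := h U fun a x hx => hU (a : A ⧸ kerV A V) x hx
  exact ⟨W, fun a => Quotient.inductionOn' a fun g x hx => hW g x hx, hd⟩

theorem base_of_quot (h : letI := quotAct (A := A) (V := V); Base (A ⧸ kerV A V) V) : Base A V := by
  obtain ⟨v, w, hvw⟩ := h
  exact ⟨v, w, fun a ha hb => hvw (a : A ⧸ kerV A V) ha hb⟩

theorem odd_quot [Finite A] (hA : Odd (Nat.card A)) (N : Subgroup A) [N.Normal] :
    Odd (Nat.card (A ⧸ N)) := hA.of_dvd_nat (Subgroup.card_quotient_dvd_card N)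

/-! ### Odd order -/

theorem exists_sq_pow [Finite A] (hA : Odd (Nat.card A)) (b : A) : ∃ m : ℕ, (b * b) ^ m = b := by
  obtain ⟨k, hk⟩ := hA
  refine ⟨k + 1, ?_⟩
  rw [← pow_two, ← pow_mul, show 2 * (k + 1) = Nat.card A + 1 by omega, pow_succ, pow_card_eq_one',
    one_mul]

theorem fix_of_sq [Finite A] (hA : Odd (Nat.card A)) {α : Type*} [MulAction A α] {b : A} {x : α}
    (h : b • b • x = x) : b • x = x := by
  obtain ⟨m, hm⟩ := exists_sq_pow hA b
  have h1 : ∀ n : ℕ, (b * b) ^ n • x = x := by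
    intro n
    induction n with
    | zero => rw [pow_zero, one_smul]
    | succ n ih => rw [pow_succ, mul_smul, mul_smul, h, ih]
  have h2 := h1 m
  rwa [hm] at h2

/-- The two vectors may be taken different. -/
theorem Base.exists_pair_ne [Nontrivial V] (h : Base A V) :
    ∃ v w : V, v ≠ w ∧ ∀ a : A, a • v = v → a • w = w → ∀ x : V, a • x = x := by
  obtain ⟨v, w, hvw⟩ := h
  by_cases hne : v = w
  · subst hne
    by_cases hv : v = 0
    · subst hv
      obtain ⟨x, hx⟩ := exists_ne (0 : V)
      exact ⟨x, 0, hx, fun a _ h0 => hvw a h0 h0⟩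
    · exact ⟨v, 0, hv, fun a ha _ => hvw a ha ha⟩
  · exact ⟨v, w, hne, hvw⟩

/-! ### Bounds -/

theorem index_le_sq [Finite V] (h : Base A V) : (kerV A V).index ≤ Nat.card V * Nat.card V := by
  obtain ⟨v, w, hvw⟩ := h
  have hst : MulAction.stabilizer A (v, w) = kerV A V := by
    ext a
    rw [MulAction.mem_stabilizer_iff, Prod.smul_mk, Prod.mk.injEq, mem_kerV]
    exact ⟨fun h => hvw a h.1 h.2, fun h => ⟨h v, h w⟩⟩
  rw [← hst, MulAction.index_stabilizer, ← Nat.card_prod]
  exact Finite.card_subtype_le _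

theorem eq_zero_of_neg [Finite V] (hV : Odd (Nat.card V)) {x : V} (h : -x = x) : x = 0 := by
  obtain ⟨k, hk⟩ := hV
  have h1 : (2 : ℕ) • x = 0 := by rw [two_nsmul]; nth_rewrite 1 [← h]; exact neg_add_cancel x
  have h2 : (2 * k + 1) • x = 0 := hk ▸ card_nsmul_eq_zero' (x := x)
  rwa [add_nsmul, mul_comm, mul_nsmul', h1, nsmul_zero, zero_add, one_nsmul] at h2

/-- The eight signed permutations of a pair. -/
def signed (i : Bool × Bool × Bool) (p : V × V) : V × V :=
  (if i.1 then -(if i.2.2 then p.2 else p.1) else (if i.2.2 then p.2 else p.1),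
    if i.2.1 then -(if i.2.2 then p.1 else p.2) else (if i.2.2 then p.1 else p.2))

theorem signed_equivariant (i : Bool × Bool × Bool) (a : A) (p : V × V) :
    signed i (a • p) = a • signed i p := by
  obtain ⟨x, y⟩ := p
  obtain ⟨_ | _, _ | _, _ | _⟩ := i <;> simp [signed, Prod.smul_mk, smul_neg]

theorem eight_index_le [Finite A] [Finite V] (hA : Odd (Nat.card A)) (hV : Odd (Nat.card V))
    (h8 : 8 ≤ Nat.card V) (h : Base A V) : 8 * (kerV A V).index ≤ Nat.card V * Nat.card V := by
  obtain ⟨x, y, hxy⟩ := h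
  have single : ∀ z : V, (∀ a : A, a • z = z → ∀ t : V, a • t = t) →
      8 * (kerV A V).index ≤ Nat.card V * Nat.card V := fun z hz => by
    have hst : MulAction.stabilizer A z = kerV A V := by
      ext a; rw [MulAction.mem_stabilizer_iff, mem_kerV]; exact ⟨hz a, fun h => h z⟩
    refine Nat.mul_le_mul h8 ?_
    rw [← hst, MulAction.index_stabilizer]
    exact Finite.card_subtype_le _
  by_cases hx0 : x = 0
  · exact single y fun a ha => hxy a (by rw [hx0, smul_zero]) ha
  by_cases hy0 : y = 0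
  · exact single x fun a ha => hxy a ha (by rw [hy0, smul_zero])
  by_cases hne : x = y
  · exact single x fun a ha => hxy a ha (hne ▸ ha)
  by_cases hne' : x = -y
  · exact single y fun a ha => hxy a (by rw [hne', smul_neg, ha]) ha
  have hst : MulAction.stabilizer A (x, y) = kerV A V := by
    ext a
    rw [MulAction.mem_stabilizer_iff, Prod.smul_mk, Prod.mk.injEq, mem_kerV]
    exact ⟨fun h => hxy a h.1 h.2, fun h => ⟨h x, h y⟩⟩
  have hxx : x ≠ -x := fun h => hx0 (eq_zero_of_neg hV h.symm)
  have hyy : y ≠ -y := fun h => hy0 (eq_zero_of_neg hV h.symm)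
  have hneg : ∀ (b : A) (z : V), b • z = -z → z = 0 := fun b z hz =>
    eq_zero_of_neg hV (hz.symm.trans (fix_of_sq hA (by rw [hz, smul_neg, hz, neg_neg])))
  have hsq : ∀ (b : A) (z : V), b • b • z = -z → z = 0 := fun b z hz =>
    hneg (b * b) z (by rw [mul_smul]; exact hz)
  -- only a kernel element permutes the four vectors
  have hperm : ∀ a : A, (a • x = x ∨ a • x = -x ∨ a • x = y ∨ a • x = -y) →
      (a • y = x ∨ a • y = -x ∨ a • y = y ∨ a • y = -y) → a • x = x ∧ a • y = y := by
    intro a hax hay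
    rcases hax with e | e | e | e
    · rcases hay with f | f | f | f
      · exact absurd ((MulAction.injective a) (f.trans e.symm)).symm hne
      · exact absurd ((MulAction.injective a) (a₁ := y) (a₂ := -x) (show a • y = a • -x by rw [f, smul_neg, e]))
          (fun h => hne' (by rw [h, neg_neg]))
      · exact ⟨e, f⟩
      · exact absurd (hneg a y f) hy0
    · exact absurd (hneg a x e) hx0
    · rcases hay with f | f | f | f
      · exact absurd ((fix_of_sq hA (by rw [e, f] : a • a • x = x)).symm.trans e) hne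
      · exact absurd (hsq a x (by rw [e, f])) hx0
      · exact absurd ((MulAction.injective a) (e.trans f.symm)) hne
      · exact absurd (hneg a y f) hy0
    · rcases hay with f | f | f | f
      · exact absurd (hsq a x (by rw [e, smul_neg, f])) hx0
      · exact absurd ((fix_of_sq hA (by rw [e, smul_neg, f, neg_neg] : a • a • x = x)).symm.trans e) hne'
      · exact absurd ((MulAction.injective a) (a₁ := x) (a₂ := -y) (show a • x = a • -y by rw [e, smul_neg, f])) hne'
      · exact absurd (hneg a y f) hy0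
  have hS : ∀ (j : Bool × Bool × Bool),
      ((signed j (x, y)).1 = x ∨ (signed j (x, y)).1 = -x ∨ (signed j (x, y)).1 = y ∨
        (signed j (x, y)).1 = -y) ∧
      ((signed j (x, y)).2 = x ∨ (signed j (x, y)).2 = -x ∨ (signed j (x, y)).2 = y ∨
        (signed j (x, y)).2 = -y) := by
    rintro ⟨_ | _, _ | _, _ | _⟩ <;> simp [signed]
  have hinj : ∀ i j : Bool × Bool × Bool, signed i (x, y) = signed j (x, y) → i = j := by
    have h1 : x ≠ -x := hxx
    have h2 : y ≠ -y := hyy
    have h3 : -x ≠ y := fun h => hne' (by rw [← h, neg_neg])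
    have h4 : -x ≠ -y := fun h => hne (neg_injective h)
    rintro ⟨_ | _, _ | _, _ | _⟩ ⟨_ | _, _ | _, _ | _⟩ h <;>
      first
      | rfl
      | (simp only [signed, Prod.mk.injEq, Bool.false_eq_true, if_false, if_true] at h
         obtain ⟨e, f⟩ := h
         first
         | exact absurd e hne | exact absurd e.symm hne | exact absurd e hne' | exact absurd e.symm hne'
         | exact absurd e h1 | exact absurd e.symm h1 | exact absurd e h2 | exact absurd e.symm h2
         | exact absurd e h3 | exact absurd e.symm h3 | exact absurd e h4 | exact absurd e.symm h4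
         | exact absurd f hne | exact absurd f.symm hne | exact absurd f hne' | exact absurd f.symm hne'
         | exact absurd f h1 | exact absurd f.symm h1 | exact absurd f h2 | exact absurd f.symm h2
         | exact absurd f h3 | exact absurd f.symm h3 | exact absurd f h4 | exact absurd f.symm h4)
  have key : ∀ (a : A) (i j : Bool × Bool × Bool), a • signed i (x, y) = signed j (x, y) →
      a • x = x ∧ a • y = y ∧ i = j := by
    intro a i j hij
    have hax : (a • x = x ∨ a • x = -x ∨ a • x = y ∨ a • x = -y) ∧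
        (a • y = x ∨ a • y = -x ∨ a • y = y ∨ a • y = -y) := by
      have hc := hS j
      rw [← hij] at hc
      obtain ⟨s1, s2, sw⟩ := i
      cases s1 <;> cases s2 <;> cases sw <;>
        simp only [signed, Prod.smul_mk, Bool.false_eq_true, if_false, if_true, smul_neg, neg_inj,
          neg_eq_iff_eq_neg, neg_neg] at hc <;>
        first
        | exact ⟨hc.1, hc.2⟩
        | exact ⟨hc.2, hc.1⟩
        | (obtain ⟨c1, c2⟩ := hc; constructor <;> tauto)
    obtain ⟨ex, ey⟩ := hperm a hax.1 hax.2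
    refine ⟨ex, ey, hinj i j (hij ▸ ?_)⟩
    rw [← signed_equivariant, Prod.smul_mk, ex, ey]
  let F : (Bool × Bool × Bool) × MulAction.orbit A (x, y) → V × V := fun q => signed q.1 q.2.1
  have hF : Function.Injective F := by
    rintro ⟨i, ⟨_, a, rfl⟩⟩ ⟨j, ⟨_, b, rfl⟩⟩ he
    change signed i (a • (x, y)) = signed j (b • (x, y)) at he
    rw [signed_equivariant, signed_equivariant] at he
    have h1 : (b⁻¹ * a) • signed i (x, y) = signed j (x, y) := by rw [mul_smul, he, inv_smul_smul]
    obtain ⟨ex, ey, rfl⟩ := key _ i j h1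
    refine Prod.ext rfl (Subtype.ext ?_)
    show a • (x, y) = b • (x, y)
    rw [← inv_smul_eq_iff, ← mul_smul, Prod.smul_mk, ex, ey]
  have h1 := Nat.card_le_card_of_injective F hF
  rw [Nat.card_prod, Nat.card_prod, Nat.card_prod, Nat.card_prod, Nat.card_eq_fintype_card (α := Bool),
    Fintype.card_bool, Nat.card_coe_set_eq, ← MulAction.index_stabilizer, hst] at h1
  omega

/-! ### Small modules -/

theorem triv_of_pgroup [Finite A] [Finite V] (h : CR A V) {p k : ℕ} [Fact p.Prime]
    (hV : Nat.card V = p ^ k) {N : Subgroup A} (hN : N.Normal) (hp : IsPGroup p N) {n : A} (hn : n ∈ N)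
    (x : V) : n • x = x := by
  let U : AddSubgroup V :=
    { carrier := {x | ∀ m ∈ N, m • x = x}
      zero_mem' := fun m _ => smul_zero m
      add_mem' := fun {a b} ha hb m hm => by rw [smul_add, ha m hm, hb m hm]
      neg_mem' := fun {a} ha m hm => by rw [smul_neg, ha m hm] }
  obtain ⟨W, hW, hd, hs⟩ := h U fun a y hy m hm => by
    have h1 := hy (a⁻¹ * m * a) (by simpa using hN.conj_mem m hm a⁻¹)
    rwa [mul_smul, mul_smul, inv_smul_eq_iff] at h1
  have hW0 : W = ⊥ := by
    by_contra hne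
    letI := subAct W fun (m : A) y hy => hW m y hy
    have hdvd : p ∣ Nat.card W := by
      obtain ⟨i, -, hi⟩ := (Nat.dvd_prime_pow (Fact.out : p.Prime)).1
        (hV ▸ AddSubgroup.card_addSubgroup_dvd_card W)
      rcases Nat.eq_zero_or_pos i with rfl | hi0
      · rw [pow_zero, AddSubgroup.card_eq_one] at hi; exact absurd hi hne
      · rw [hi]; exact dvd_pow_self p (by omega)
    obtain ⟨y, hy, hy0⟩ := hp.exists_fixed_point_of_prime_dvd_card_of_fixed_point (α := W) hdvd
      (a := (0 : W)) fun m => smul_zero (m : A)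
    have h1 : (y : V) ∈ U ⊓ W :=
      AddSubgroup.mem_inf.2 ⟨fun m hm => congrArg Subtype.val (hy ⟨m, hm⟩), y.2⟩
    rw [hd, AddSubgroup.mem_bot] at h1
    exact hy0 (Subtype.ext h1.symm)
  have hx : x ∈ U := by
    have h1 : x ∈ U ⊔ W := hs ▸ AddSubgroup.mem_top x
    rwa [hW0, sup_bot_eq] at h1
  exact hx n hn

end Cfsg.Agent.Solv.OddPair
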