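import Mathlib

/-!
Counting the subsets preserved by permutations of prime order, and the arithmetic of it.
-/

set_option autoImplicit false
set_option linter.unusedSectionVars false
set_option linter.style.haveILetI false

namespace Cfsg.Agent.Solv.OddPair

universe u v

variable {A : Type u} {Ω : Type v} [Group A] [Finite A] [MulAction A Ω] [Finite Ω]

/-- The subsets preserved by an element. -/
def invSets (Ω : Type v) [MulAction A Ω] (g : A) : Set (Set Ω) := {S | ∀ x, x ∈ S ↔ g • x ∈ S}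

theorem mem_iff_of_mem_zpowers {g h : A} (hh : h ∈ Subgroup.zpowers g) {S : Set Ω}
    (hS : S ∈ invSets Ω g) (x : Ω) : x ∈ S ↔ h • x ∈ S := by
  obtain ⟨k, rfl⟩ := (Subgroup.mem_zpowers_iff).1 hh
  clear hh
  induction k using Int.induction_on generalizing x with
  | zero => rw [zpow_zero, one_smul]
  | succ n ih => rw [zpow_add_one, mul_smul, ← ih (g • x)]; exact hS x
  | pred n ih =>
    rw [zpow_sub_one, mul_smul, ← ih (g⁻¹ • x), hS (g⁻¹ • x), smul_inv_smul]

/-- An element of prime order at least three with `f` fixed points preserves at most `2 ^ c` subsets,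
where three times `c` is at most `|Ω| + 2 * f`. -/
theorem exists_orbits {g : A} {p : ℕ} (hp : p.Prime) (h3 : 3 ≤ p) (hg : orderOf g = p) :
    ∃ c : ℕ, Nat.card (invSets Ω g) ≤ 2 ^ c ∧
      3 * c ≤ Nat.card Ω + 2 * Nat.card (MulAction.fixedBy Ω g) := by
  classical
  let H := Subgroup.zpowers g
  let Q := Quotient (MulAction.orbitRel H Ω)
  haveI := Fintype.ofFinite H
  haveI := Fintype.ofFinite Ω
  haveI := Fintype.ofFinite Q
  refine ⟨Nat.card Q, ?_, ?_⟩
  · have h1 : Function.Injective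
        (fun S : invSets Ω g => (Quotient.mk (MulAction.orbitRel H Ω)) '' (S : Set Ω)) := by
      intro S T hST
      have key : ∀ S T : invSets Ω g, (Quotient.mk (MulAction.orbitRel H Ω)) '' (S : Set Ω) =
          (Quotient.mk (MulAction.orbitRel H Ω)) '' (T : Set Ω) → (S : Set Ω) ⊆ T := by
        intro S T hST x hx
        obtain ⟨y, hy, hyx⟩ := hST.le ⟨x, hx, rfl⟩
        obtain ⟨h, hh⟩ := (Quotient.exact hyx : MulAction.orbitRel H Ω y x)
        rw [← hh] at hy
        exact (mem_iff_of_mem_zpowers h.2 T.2 x).2 hy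
      exact Subtype.ext ((key S T hST).antisymm (key T S hST.symm))
    refine (Nat.card_le_card_of_injective _ h1).trans (le_of_eq ?_)
    rw [Nat.card_eq_fintype_card, Fintype.card_set, Nat.card_eq_fintype_card]
  · have hb := MulAction.sum_card_fixedBy_eq_card_orbits_mul_card_group H Ω
    have hH : Fintype.card H = p := by
      rw [← Nat.card_eq_fintype_card, Nat.card_zpowers, hg]
    have hfix : ∀ h : H, h ≠ 1 →
        Fintype.card (MulAction.fixedBy Ω h) = Nat.card (MulAction.fixedBy Ω g) := by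
      intro h h1
      have hgh : g ∈ Subgroup.zpowers (h : A) := by
        have h2 : Subgroup.zpowers (h : A) = H := by
          refine Subgroup.eq_of_le_of_card_ge (Subgroup.zpowers_le.2 h.2) ?_
          rw [Nat.card_zpowers, Nat.card_zpowers, hg]
          have h3 : orderOf (h : A) ∣ p := by
            rw [← hg, ← Nat.card_zpowers g, ← Nat.card_zpowers (h : A)]
            exact Subgroup.card_dvd_of_le (Subgroup.zpowers_le.2 h.2)
          rcases (Nat.dvd_prime hp).1 h3 with h4 | h4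
          · exact absurd (Subtype.ext (orderOf_eq_one_iff.1 h4)) h1
          · exact h4.ge
        rw [h2]
        exact Subgroup.mem_zpowers g
      have e : MulAction.fixedBy Ω h = MulAction.fixedBy Ω g := by
        ext x
        simp only [MulAction.mem_fixedBy]
        refine ⟨fun hx => ?_, fun hx => ?_⟩
        · exact (Subgroup.zpowers_le (H := MulAction.stabilizer A x)).2
            (show (h : A) • x = x from hx) hgh
        · exact (Subgroup.zpowers_le (H := MulAction.stabilizer A x)).2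
            (show g • x = x from hx) h.2
      rw [← Nat.card_eq_fintype_card, e]
    rw [← Finset.add_sum_erase _ _ (Finset.mem_univ (1 : H)),
      Finset.sum_congr rfl (fun h hh => hfix h (Finset.ne_of_mem_erase hh)), Finset.sum_const,
      Finset.card_erase_of_mem (Finset.mem_univ _), Finset.card_univ, hH, smul_eq_mul] at hb
    have h1 : Fintype.card (MulAction.fixedBy Ω (1 : H)) = Nat.card Ω := by
      rw [← Nat.card_eq_fintype_card]
      exact Nat.card_congr (Equiv.subtypeUnivEquiv fun x => one_smul H x)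
    rw [h1] at hb
    have hfn : Nat.card (MulAction.fixedBy Ω g) ≤ Nat.card Ω := Finite.card_subtype_le _
    rw [show Fintype.card (Quotient (MulAction.orbitRel H Ω)) = Nat.card Q from
      (Nat.card_eq_fintype_card).symm] at hb
    obtain ⟨d, rfl⟩ : ∃ d, p = d + 3 := ⟨p - 3, by omega⟩
    rw [show d + 3 - 1 = d + 2 by omega] at hb
    nlinarith [Nat.mul_le_mul_left d hfn]

/-- If every subset is preserved by some element moving a point, the group is large. -/
theorem card_gt_of_no_good (hA : Odd (Nat.card A)) (hf : ∀ a : A, (∀ x : Ω, a • x = x) → a = 1)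
    (hbad : ∀ S : Set Ω, ∃ a : A, (∀ x, x ∈ S ↔ a • x ∈ S) ∧ ∃ x : Ω, a • x ≠ x)
    {c : ℕ} (hc : ∀ g : A, ∀ p : ℕ, p.Prime → orderOf g = p → Nat.card (invSets Ω g) ≤ 2 ^ c) :
    2 ^ (Nat.card Ω + 1) < Nat.card A * 2 ^ c := by
  classical
  haveI := Fintype.ofFinite A
  haveI := Fintype.ofFinite Ω
  let G : Finset A := Finset.univ.filter fun g => (orderOf g).Prime
  have h2 : ∀ S : Set Ω, 2 ≤ (G.filter fun g => S ∈ invSets Ω g).card := by
    intro S
    obtain ⟨a, haS, x, hx⟩ := hbad S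
    have ha1 : orderOf a ≠ 1 := fun h => hx (by rw [orderOf_eq_one_iff.1 h, one_smul])
    obtain ⟨p, hp, hpd⟩ := Nat.exists_prime_and_dvd ha1
    let b := a ^ (orderOf a / p)
    have hb : orderOf b = p := orderOf_pow_orderOf_div (orderOf_pos a).ne' hpd
    have hbS : S ∈ invSets Ω b := fun y =>
      mem_iff_of_mem_zpowers (Subgroup.npow_mem_zpowers a _) haS y
    have hne : b ≠ b⁻¹ := fun h => by
      have h1 : orderOf b ∣ 2 := orderOf_dvd_of_pow_eq_one (by rw [pow_two]; nth_rewrite 2 [h]; exact mul_inv_cancel b)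
      have h2 : orderOf b ∣ Nat.card A := orderOf_dvd_natCard b
      rw [hb] at h1 h2
      rw [(Nat.prime_dvd_prime_iff_eq hp Nat.prime_two).1 h1] at h2
      exact absurd h2 (fun h => by obtain ⟨k, hk⟩ := hA; omega)
    calc 2 = ({b, b⁻¹} : Finset A).card := (Finset.card_pair hne).symm
      _ ≤ _ := Finset.card_le_card fun g hg => by
        simp only [Finset.mem_insert, Finset.mem_singleton] at hg
        rcases hg with rfl | rfl
        · exact Finset.mem_filter.2 ⟨Finset.mem_filter.2 ⟨Finset.mem_univ _, hb ▸ hp⟩, hbS⟩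
        · refine Finset.mem_filter.2 ⟨Finset.mem_filter.2 ⟨Finset.mem_univ _, ?_⟩, fun y => ?_⟩
          · rw [orderOf_inv, hb]; exact hp
          · rw [hbS (b⁻¹ • y), smul_inv_smul]
  have key : 2 * 2 ^ Nat.card Ω ≤ G.card * 2 ^ c :=
    calc 2 * 2 ^ Nat.card Ω = ∑ _S : Set Ω, 2 := by
          rw [Finset.sum_const, Finset.card_univ, smul_eq_mul, Fintype.card_set,
            Nat.card_eq_fintype_card, mul_comm]
      _ ≤ ∑ S : Set Ω, (G.filter fun g => S ∈ invSets Ω g).card := Finset.sum_le_sum fun S _ => h2 S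
      _ = ∑ g ∈ G, (Finset.univ.filter fun S : Set Ω => S ∈ invSets Ω g).card := by
          simp only [Finset.card_filter]
          exact Finset.sum_comm
      _ ≤ ∑ _g ∈ G, 2 ^ c := Finset.sum_le_sum fun g hg => by
          rw [← Fintype.card_subtype, ← Nat.card_eq_fintype_card]
          exact hc g _ (Finset.mem_filter.1 hg).2 rfl
      _ = G.card * 2 ^ c := by rw [Finset.sum_const, smul_eq_mul]
  have hG : G.card < Nat.card A := by
    rw [Nat.card_eq_fintype_card]
    refine Finset.card_lt_card (Finset.filter_ssubset.2 ⟨1, Finset.mem_univ _, ?_⟩)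
    rw [orderOf_one]
    exact Nat.not_prime_one
  calc 2 ^ (Nat.card Ω + 1) = 2 * 2 ^ Nat.card Ω := by rw [pow_succ, mul_comm]
    _ ≤ G.card * 2 ^ c := key
    _ < Nat.card A * 2 ^ c := Nat.mul_lt_mul_of_pos_right hG (by positivity)

/-! ### Arithmetic -/

theorem cube_le_two_pow (n : ℕ) (hn : 3 ≤ n) : n ^ 3 ≤ 2 ^ (n + 2) := by
  rcases Nat.lt_or_ge n 4 with h | h
  · interval_cases n; norm_num
  clear hn
  induction n, h using Nat.le_induction with
  | base => norm_num
  | succ n hn ih =>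
    calc (n + 1) ^ 3 ≤ 2 * n ^ 3 := by nlinarith [Nat.mul_le_mul hn hn]
      _ ≤ 2 * 2 ^ (n + 2) := Nat.mul_le_mul_left 2 ih
      _ = 2 ^ (n + 1 + 2) := by rw [show n + 1 + 2 = (n + 2) + 1 by omega, pow_succ 2 (n + 2), mul_comm]

theorem arith_prime {p a c : ℕ} (hp : 3 ≤ p) (ha : 2 * a ≤ p - 1) (hc : 3 * c ≤ p + 2) :
    p * a * 2 ^ c ≤ 2 ^ (p + 1) := by
  obtain ⟨e, he⟩ : ∃ e, p + 2 = e + c := ⟨p + 2 - c, by omega⟩
  have h1 : (p * p) ^ 3 ≤ (2 ^ e) ^ 3 :=
    calc (p * p) ^ 3 = p ^ 3 * p ^ 3 := mul_pow p p 3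
      _ ≤ 2 ^ (p + 2) * 2 ^ (p + 2) := Nat.mul_le_mul (cube_le_two_pow p hp) (cube_le_two_pow p hp)
      _ = 2 ^ (2 * (p + 2)) := by rw [← pow_add, two_mul]
      _ ≤ 2 ^ (e * 3) := Nat.pow_le_pow_right (by norm_num) (by omega)
      _ = (2 ^ e) ^ 3 := pow_mul 2 e 3
  have h2 : p * p ≤ 2 ^ e := (Nat.pow_le_pow_iff_left (by norm_num)).1 h1
  have h3 : 2 * (p * a * 2 ^ c) ≤ 2 * 2 ^ (p + 1) :=
    calc 2 * (p * a * 2 ^ c) = p * (2 * a) * 2 ^ c := by ring
      _ ≤ p * p * 2 ^ c := Nat.mul_le_mul_right _ (Nat.mul_le_mul_left p (by omega))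
      _ ≤ 2 ^ e * 2 ^ c := Nat.mul_le_mul_right _ h2
      _ = 2 * 2 ^ (p + 1) := by rw [← pow_add, ← he, ← pow_succ']
  omega

theorem pow27_le (n : ℕ) (hn : 45 ≤ n) : n ^ 27 ≤ 2 ^ (4 * n + 9) := by
  induction n, hn using Nat.le_induction with
  | base => norm_num
  | succ n hn ih =>
    have h1 : (45 * (n + 1)) ^ 27 ≤ (46 * n) ^ 27 := Nat.pow_le_pow_left (by omega) 27
    rw [mul_pow, mul_pow] at h1
    have h2 : 46 ^ 27 ≤ 16 * 45 ^ 27 := by norm_num
    have h3 : 45 ^ 27 * (n + 1) ^ 27 ≤ 45 ^ 27 * (16 * 2 ^ (4 * n + 9)) :=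
      h1.trans ((Nat.mul_le_mul h2 ih).trans (le_of_eq (by rw [← mul_assoc, mul_comm (45 ^ 27) 16])))
    refine (Nat.le_of_mul_le_mul_left h3 (by norm_num)).trans (le_of_eq ?_)
    rw [show 4 * (n + 1) + 9 = 4 + (4 * n + 9) by ring, pow_add 2 4, show (2 : ℕ) ^ 4 = 16 by norm_num]

theorem arith_large {n a c : ℕ} (hn : 45 ≤ n) (ha : a ≤ n * n) (hc : 9 * c ≤ 5 * n) :
    n * a * 2 ^ c ≤ 2 ^ (n + 1) := by
  obtain ⟨e, he⟩ : ∃ e, n + 1 = e + c := ⟨n + 1 - c, by omega⟩
  have h1 : (n * (n * n)) ^ 9 ≤ (2 ^ e) ^ 9 :=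
    calc (n * (n * n)) ^ 9 = n ^ 27 := by ring
      _ ≤ 2 ^ (4 * n + 9) := pow27_le n hn
      _ ≤ 2 ^ (e * 9) := Nat.pow_le_pow_right (by norm_num) (by omega)
      _ = (2 ^ e) ^ 9 := pow_mul 2 e 9
  calc n * a * 2 ^ c ≤ n * (n * n) * 2 ^ c := Nat.mul_le_mul_right _ (Nat.mul_le_mul_left n ha)
    _ ≤ 2 ^ e * 2 ^ c := Nat.mul_le_mul_right _ ((Nat.pow_le_pow_iff_left (by norm_num)).1 h1)
    _ = 2 ^ (n + 1) := by rw [← pow_add, he]

end Cfsg.Agent.Solv.OddPair
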