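import Cfsg.Agent.Lib.Solv.OddPair.Basic
import Cfsg.Agent.S0205

/-!
Odd order groups on completely reducible modules with 9, 27 or 81 elements.
-/

set_option autoImplicit false
set_option linter.unusedSectionVars false
set_option linter.style.haveILetI false

namespace Cfsg.Agent.Solv.OddPair

universe u v

theorem exists_elem_normal {G : Type u} [Group G] [Finite G] [Nontrivial G] (hG : Group.IsSolvable G) :
    ∃ (q : ℕ) (N : Subgroup G), q.Prime ∧ N.Normal ∧ N ≠ ⊥ ∧
      (∀ x ∈ N, ∀ y ∈ N, Commute x y) ∧ ∀ x ∈ N, x ^ q = 1 := by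
  classical
  haveI := hG
  have h : ∃ n, derivedSeries G n = ⊥ := (Group.isSolvable_def G).1 inferInstance
  have h0 : Nat.find h ≠ 0 := fun h0 => by
    have h1 := Nat.find_spec h
    rw [h0, derivedSeries_zero] at h1
    exact top_ne_bot h1
  obtain ⟨k, hk⟩ := Nat.exists_eq_succ_of_ne_zero h0
  obtain ⟨D, hD⟩ : ∃ D, D = derivedSeries G k := ⟨_, rfl⟩
  have hDn : D.Normal := hD ▸ inferInstance
  have hDc : ∀ x ∈ D, ∀ y ∈ D, Commute x y := fun x hx y hy => by
    have h1 := Nat.find_spec h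
    rw [hk, derivedSeries_succ, Subgroup.commutator_eq_bot_iff_le_centralizer] at h1
    exact (Subgroup.mem_centralizer_iff.1 (h1 (hD ▸ hx)) y (hD ▸ hy)).symm
  haveI : Nontrivial D := (Subgroup.nontrivial_iff_ne_bot D).2 (hD ▸ Nat.find_min h (by omega))
  obtain ⟨q, hq, hqd⟩ := Nat.exists_prime_and_dvd (Finite.one_lt_card (α := D)).ne'
  haveI := Fact.mk hq
  obtain ⟨x, hx⟩ := exists_prime_orderOf_dvd_card' q hqd
  let N : Subgroup G :=
    { carrier := {g | g ∈ D ∧ g ^ q = 1}
      one_mem' := ⟨one_mem D, one_pow q⟩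
      mul_mem' := fun {a b} ha hb =>
        ⟨mul_mem ha.1 hb.1, by rw [(hDc a ha.1 b hb.1).mul_pow, ha.2, hb.2, one_mul]⟩
      inv_mem' := fun {a} ha => ⟨inv_mem ha.1, by rw [inv_pow, ha.2, inv_one]⟩ }
  refine ⟨q, N, hq, ⟨fun a ha g => ⟨hDn.conj_mem a ha.1 g, by rw [conj_pow, ha.2, mul_one, mul_inv_cancel]⟩⟩,
    fun hb => ?_, fun a ha b hb => hDc a ha.1 b hb.1, fun a ha => ha.2⟩
  have hxN : (x : G) ∈ N := ⟨x.2, by rw [← SubmonoidClass.coe_pow, ← hx, pow_orderOf_eq_one]; rfl⟩
  rw [hb, Subgroup.mem_bot, OneMemClass.coe_eq_one] at hxN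
  rw [hxN, orderOf_one] at hx
  exact hq.ne_one hx.symm

variable {A : Type u} {V : Type v} [Group A] [Finite A] [AddCommGroup V] [Finite V]
  [DistribMulAction A V]

theorem small_faithful (hA : Odd (Nat.card A)) (hcr : CR A V)
    (hf : ∀ a : A, (∀ x : V, a • x = x) → a = 1) (hV : Nat.card V ∈ ({9, 27, 81} : Finset ℕ)) :
    Nat.card A ≤ 39 ∧ (Nat.card V = 9 → Nat.card A = 1) := by
  classical
  rcases subsingleton_or_nontrivial A with hs | hnt
  · have h1 : Nat.card A = 1 := Nat.card_eq_one_iff_unique.2 ⟨hs, ⟨1⟩⟩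
    exact ⟨by omega, fun _ => h1⟩
  haveI := Fact.mk Nat.prime_three
  obtain ⟨k, hk, hk4⟩ : ∃ k, Nat.card V = 3 ^ k ∧ k ≤ 4 := by
    simp only [Finset.mem_insert, Finset.mem_singleton] at hV
    rcases hV with h | h | h
    · exact ⟨2, by rw [h]; norm_num, by norm_num⟩
    · exact ⟨3, by rw [h]; norm_num, by norm_num⟩
    · exact ⟨4, by rw [h]; norm_num, le_rfl⟩
  obtain ⟨q, N, hq, hN, hN1, hNc, hNq⟩ := exists_elem_normal (Cfsg.Agent.S0205.result hA)
  haveI := Fact.mk hq
  have hNp : IsPGroup q N := fun x => ⟨1, Subtype.ext (by rw [SubmonoidClass.coe_pow, pow_one]; exact hNq x x.2)⟩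
  haveI : Nontrivial N := (Subgroup.nontrivial_iff_ne_bot N).2 hN1
  have hqA : q ∣ Nat.card A := by
    obtain ⟨n, hn, hn'⟩ := (IsPGroup.nontrivial_iff_card hNp).1 inferInstance
    exact (dvd_pow_self q hn.ne').trans (hn' ▸ Subgroup.card_subgroup_dvd_card N)
  have hqodd : Odd q := hA.of_dvd_nat hqA
  have hq3 : q ≠ 3 := fun h => hN1 ((Subgroup.eq_bot_iff_forall N).2 fun n hn =>
    hf n (triv_of_pgroup hcr hk hN (h ▸ hNp) hn))
  -- the fixed part of `N` and its complement
  let U : AddSubgroup V :=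
    { carrier := {x | ∀ m ∈ N, m • x = x}
      zero_mem' := fun m _ => smul_zero m
      add_mem' := fun {a b} ha hb m hm => by rw [smul_add, ha m hm, hb m hm]
      neg_mem' := fun {a} ha m hm => by rw [smul_neg, ha m hm] }
  have hUinv : ∀ a : A, ∀ x ∈ U, a • x ∈ U := fun a y hy m hm => by
    have h1 := hy (a⁻¹ * m * a) (by simpa using hN.conj_mem m hm a⁻¹)
    rwa [mul_smul, mul_smul, inv_smul_eq_iff] at h1
  obtain ⟨W, hW, hd, hs⟩ := hcr U hUinv
  have hsplit : ∀ g : A, (∀ x ∈ U, g • x = x) → (∀ x ∈ W, g • x = x) → g = 1 := fun g hgU hgW =>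
    hf g fun x => by
      obtain ⟨a, ha, b, hb, rfl⟩ := AddSubgroup.mem_sup.1 (hs ▸ AddSubgroup.mem_top x : x ∈ U ⊔ W)
      rw [smul_add, hgU a ha, hgW b hb]
  -- invariant subgroups of `W` have size congruent to one
  have hmodq : ∀ Y : AddSubgroup V, Y ≤ W → (∀ n ∈ N, ∀ x ∈ Y, n • x ∈ Y) → Nat.card Y ≡ 1 [MOD q] := by
    intro Y hY hYinv
    letI := subAct Y fun (m : N) x hx => hYinv m m.2 x hx
    refine (hNp.card_modEq_card_fixedPoints Y).trans ?_
    rw [show Nat.card (MulAction.fixedPoints N Y) = 1 from ?_]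
    refine Nat.card_eq_one_iff_unique.2 ⟨⟨fun a b => ?_⟩, ⟨⟨0, fun m => Subtype.ext (smul_zero (m : A))⟩⟩⟩
    have key : ∀ a : MulAction.fixedPoints N Y, ((a : Y) : V) = 0 := fun a => by
      have h1 : ((a : Y) : V) ∈ U ⊓ W := AddSubgroup.mem_inf.2
        ⟨fun m hm => congrArg Subtype.val (a.2 ⟨m, hm⟩), hY (a : Y).2⟩
      rwa [hd, AddSubgroup.mem_bot] at h1
    exact Subtype.ext (Subtype.ext ((key a).trans (key b).symm))
  have hpow : ∀ Y : AddSubgroup V, ∃ j ≤ k, Nat.card Y = 3 ^ j := fun Y =>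
    (Nat.dvd_prime_pow Nat.prime_three).1 (hk ▸ AddSubgroup.card_addSubgroup_dvd_card Y)
  have hW0 : W ≠ ⊥ := fun hb => hN1 ((Subgroup.eq_bot_iff_forall N).2 fun n hn =>
    hsplit n (fun x hx => hx n hn) fun x hx => by
      rw [hb, AddSubgroup.mem_bot] at hx; rw [hx, smul_zero])
  have hUW : Nat.card U * Nat.card W ≤ Nat.card V := by
    rw [← Nat.card_prod]
    refine Nat.card_le_card_of_injective (fun x : U × W => (x.1 : V) + x.2) fun x y hxy => ?_
    have h1 : (x.1 : V) - y.1 ∈ U ⊓ W := AddSubgroup.mem_inf.2 ⟨U.sub_mem x.1.2 y.1.2, by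
      rw [show (x.1 : V) - y.1 = (y.2 : V) - x.2 by
        rw [sub_eq_sub_iff_add_eq_add]; exact hxy.trans (add_comm _ _)]
      exact W.sub_mem y.2.2 x.2.2⟩
    rw [hd, AddSubgroup.mem_bot, sub_eq_zero] at h1
    refine Prod.ext (Subtype.ext h1) (Subtype.ext ?_)
    change (x.1 : V) + x.2 = y.1 + y.2 at hxy
    rw [h1] at hxy
    exact add_left_cancel hxy
  -- the possible sizes
  obtain ⟨j, hj, hjW⟩ := hpow W
  have hmW := hmodq W le_rfl fun n _ x hx => hW n x hx
  rw [hjW] at hmW
  have hj0 : j ≠ 0 := fun h0 => hW0 (AddSubgroup.card_eq_one.1 (by rw [hjW, h0, pow_zero]))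
  have hdvd : q ∣ 3 ^ j - 1 := (Nat.modEq_iff_dvd' (Nat.one_le_pow _ _ (by norm_num))).1 hmW.symm
  have hcases : (j = 3 ∧ q = 13) ∨ (j = 4 ∧ q = 5) := by
    have hle : q ≤ 3 ^ j - 1 := Nat.le_of_dvd (by
      have : 3 ≤ 3 ^ j := le_self_pow₀ (by norm_num) hj0
      omega) hdvd
    have hq2 := hq.two_le
    obtain ⟨t, ht⟩ := hqodd
    have hj4 : j ≤ 4 := hj.trans hk4
    have h1 : 3 ^ j ≤ 81 := (Nat.pow_le_pow_right (by norm_num) hj4).trans (by norm_num)
    have hq80 : q ≤ 80 := hle.trans (by omega)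
    interval_cases j <;> norm_num at hdvd ⊢ <;> interval_cases q <;> omega
  have hkey : ∀ i, i ≤ j → 3 ^ i ≡ 1 [MOD q] → i = 0 ∨ i = j := by
    intro i hi h
    rcases hcases with ⟨rfl, rfl⟩ | ⟨rfl, rfl⟩ <;> interval_cases i <;>
      first | exact Or.inl rfl | exact Or.inr rfl | (exfalso; revert h; decide)
  have hcardV : 27 ≤ Nat.card V ∧ Nat.card U ≤ 3 := by
    have hWle : Nat.card W ≤ Nat.card V := Finite.card_subtype_le _
    have h81 : Nat.card V ≤ 81 := by
      rw [hk]; exact (Nat.pow_le_pow_right (by norm_num) hk4).trans (by norm_num)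
    rcases hcases with ⟨rfl, -⟩ | ⟨rfl, -⟩ <;> norm_num at hjW <;> rw [hjW] at hUW hWle <;> omega
  refine ⟨?_, fun h9 => absurd hcardV.1 (by omega)⟩
  have hUtriv : ∀ g : A, ∀ x ∈ U, g • x = x := by
    intro g x hx
    by_cases hx0 : x = 0
    · rw [hx0, smul_zero]
    refine fix_of_sq hA ?_
    by_cases h1 : g • x = x
    · rw [h1, h1]
    by_contra h2
    have hgx : g • x ≠ 0 := fun h => hx0 ((smul_eq_zero_iff_eq g).1 h)
    have hggx : g • g • x ≠ 0 := fun h => hgx ((smul_eq_zero_iff_eq g).1 h)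
    have h3 : g • g • x ≠ g • x := fun h => h1 (MulAction.injective g h)
    let emb : Fin 4 → U := ![0, ⟨x, hx⟩, ⟨g • x, hUinv g x hx⟩, ⟨g • g • x, hUinv g _ (hUinv g x hx)⟩]
    have hinj : Function.Injective (fun i => ((emb i : U) : V)) := by
      intro a b hab
      fin_cases a <;> fin_cases b <;> first
        | rfl
        | (simp [emb] at hab; first
            | exact absurd hab hx0 | exact absurd hab.symm hx0 | exact absurd hab hgx | exact absurd hab.symm hgx
            | exact absurd hab hggx | exact absurd hab.symm hggx | exact absurd hab h1 | exact absurd hab.symm h1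
            | exact absurd hab h2 | exact absurd hab.symm h2 | exact absurd hab h3 | exact absurd hab.symm h3)
    replace hinj : Function.Injective emb := fun a b hab => hinj (congrArg Subtype.val hab)
    have := Nat.card_le_card_of_injective emb hinj
    rw [Nat.card_fin] at this
    omega
  -- the centraliser acts semiregularly on `W`
  obtain ⟨C, hC⟩ : ∃ C, C = Subgroup.centralizer (N : Set A) := ⟨_, rfl⟩
  letI := subAct W fun (c : C) x hx => hW c x hx
  have hfree : ∀ x : {x : W // x ≠ 0}, ∀ c : C, c • (x : W) = x → c = 1 := by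
    intro x c hc
    let Y : AddSubgroup V :=
      { carrier := {y | y ∈ W ∧ (c : A) • y = y}
        zero_mem' := ⟨W.zero_mem, smul_zero _⟩
        add_mem' := fun {a b} ha hb => ⟨W.add_mem ha.1 hb.1, by rw [smul_add, ha.2, hb.2]⟩
        neg_mem' := fun {a} ha => ⟨W.neg_mem ha.1, by rw [smul_neg, ha.2]⟩ }
    have hYW : Y ≤ W := fun y hy => hy.1
    have hm := hmodq Y hYW fun n hn y hy => ⟨hW n y hy.1, by
      have hcn : (c : A) * n = n * c := (Subgroup.mem_centralizer_iff.1 (hC ▸ c.2) n hn).symm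
      rw [← mul_smul, hcn, mul_smul, hy.2]⟩
    obtain ⟨i, -, hi⟩ := hpow Y
    rw [hi] at hm
    have hij : i ≤ j := by
      have h1 : 3 ^ i ≤ 3 ^ j := by rw [← hi, ← hjW]; exact AddSubgroup.card_le_of_le hYW
      exact (Nat.pow_le_pow_iff_right (by norm_num)).1 h1
    rcases hkey i hij hm with rfl | rfl
    · rw [pow_zero, AddSubgroup.card_eq_one] at hi
      have h1 : ((x : W) : V) ∈ Y := ⟨(x : W).2, congrArg Subtype.val hc⟩
      rw [hi, AddSubgroup.mem_bot] at h1
      exact absurd (Subtype.ext h1) x.2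
    · have hYeq : Y = W := AddSubgroup.eq_of_le_of_card_ge hYW (by rw [hi, hjW])
      exact Subtype.ext (hsplit c (hUtriv c) fun y hy => (hYeq.ge hy).2)
  letI : MulAction C {x : W // x ≠ 0} :=
    { smul := fun c x => ⟨c • (x : W), fun h => x.2 (by rwa [smul_eq_zero_iff_eq] at h)⟩
      one_smul := fun x => Subtype.ext (one_smul C (x : W))
      mul_smul := fun a b x => Subtype.ext (mul_smul a b (x : W)) }
  have hCdvd : Nat.card C ∣ 3 ^ j - 1 := by
    have hst : ∀ x : {x : W // x ≠ 0}, MulAction.stabilizer C x = ⊥ := fun x =>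
      (Subgroup.eq_bot_iff_forall _).2 fun c hc => hfree x c (congrArg Subtype.val hc)
    have h1 : Nat.card {x : W // x ≠ 0} = 3 ^ j - 1 := by
      haveI := Fintype.ofFinite W
      rw [Nat.card_eq_fintype_card, Fintype.card_subtype_compl, Fintype.card_subtype_eq,
        ← Nat.card_eq_fintype_card, hjW]
    rw [← h1, Nat.card_congr (MulAction.selfEquivOrbitsQuotientProd hst), Nat.card_prod]
    exact dvd_mul_left _ _
  have hNC : N ≤ C := hC ▸ fun n hn => Subgroup.mem_centralizer_iff.2 fun y hy => (hNc y hy n hn).eq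
  have hCodd : Odd (Nat.card C) := hA.of_dvd_nat (Subgroup.card_subgroup_dvd_card C)
  have hCq : Nat.card C = q := by
    have hqC : q ∣ Nat.card C := by
      obtain ⟨n, hn, hn'⟩ := (IsPGroup.nontrivial_iff_card hNp).1 inferInstance
      exact (dvd_pow_self q hn.ne').trans (hn' ▸ Subgroup.card_dvd_of_le hNC)
    rcases hcases with ⟨rfl, rfl⟩ | ⟨rfl, rfl⟩
    all_goals
      norm_num at hCdvd
      obtain ⟨t, ht⟩ := hCodd
      have hle := Nat.le_of_dvd (by norm_num) hCdvd
      obtain ⟨m, hm⟩ := hqC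
      have hm6 : m ≤ 16 := by omega
      interval_cases m <;> norm_num at hm <;> rw [hm] at hCdvd ht ⊢ <;> omega
  have hNC' : N = C := by
    obtain ⟨n, hn, hn'⟩ := (IsPGroup.nontrivial_iff_card hNp).1 inferInstance
    refine Subgroup.eq_of_le_of_card_ge hNC ?_
    rw [hCq, hn']
    exact le_self_pow₀ hq.one_lt.le hn.ne'
  -- the quotient by the centraliser
  haveI := hN
  have hidx : N.index ∣ q - 1 := by
    let f : A →* MulAut N := MulAut.conjNormal
    have hker : f.ker = N := by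
      conv_rhs => rw [hNC', hC]
      ext g
      rw [MonoidHom.mem_ker, Subgroup.mem_centralizer_iff]
      constructor
      · intro hg n hn
        have h1 := congrArg Subtype.val (DFunLike.congr_fun hg ⟨n, hn⟩)
        rw [MulAut.conjNormal_apply, MulAut.one_apply] at h1
        change g * n * g⁻¹ = n at h1
        calc n * g = g * n * g⁻¹ * g := by rw [h1]
          _ = g * n := by group
      · intro hg
        refine MulEquiv.ext fun n => Subtype.ext ?_
        rw [MulAut.conjNormal_apply, MulAut.one_apply, ← hg n n.2]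
        group
    rw [← hker, Subgroup.index_ker]
    haveI hcyc : IsCyclic N := isCyclic_of_prime_card (p := q) (hNC' ▸ hCq)
    refine (Subgroup.card_subgroup_dvd_card f.range).trans ?_
    rw [Nat.card_congr (IsCyclic.mulAutMulEquiv N).toEquiv, hNC', hCq, Nat.card_eq_fintype_card,
      ZMod.card_units_eq_totient, Nat.totient_prime hq]
  have hiodd : Odd N.index := hA.of_dvd_nat (Subgroup.index_dvd_card N)
  have hi3 : N.index ≤ 3 := by
    rcases hcases with ⟨-, rfl⟩ | ⟨-, rfl⟩
    all_goals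
      norm_num at hidx
      obtain ⟨t, ht⟩ := hiodd
      have hle := Nat.le_of_dvd (by norm_num) hidx
      interval_cases N.index <;> omega
  rw [← Subgroup.card_mul_index N, hNC', hCq, ← hNC']
  rcases hcases with ⟨-, rfl⟩ | ⟨-, rfl⟩ <;> omega

/-- The kernel has index at most 39, and is everything for nine elements. -/
theorem small_index (hA : Odd (Nat.card A)) (hcr : CR A V)
    (hV : Nat.card V ∈ ({9, 27, 81} : Finset ℕ)) :
    (kerV A V).index ≤ 39 ∧ (Nat.card V = 9 → (kerV A V).index = 1) := by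
  letI := quotAct (A := A) (V := V)
  rw [Subgroup.index_eq_card]
  exact small_faithful (odd_quot hA _) (cr_quot hcr) quot_faithful hV

end Cfsg.Agent.Solv.OddPair
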