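import Cfsg.Agent.Lib.Solv.OddPair.Small
import Cfsg.Agent.Lib.Solv.OddPair.Count

/-!
An odd order permutation group has a subset whose stabiliser is the kernel.
-/

set_option autoImplicit false
set_option linter.unusedSectionVars false
set_option linter.style.haveILetI false

namespace Cfsg.Agent.Solv.OddPair

universe u v

/-- The induction hypothesis: bases of size two in all modules of size at most `n`. -/
def PB (n : ℕ) : Prop :=
  ∀ (A V : Type v) [Group A] [Finite A] [AddCommGroup V] [Finite V] [DistribMulAction A V],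
    Odd (Nat.card A) → CR A V → Nat.card V ≤ n → Base A V

/-- A subset whose stabiliser is the kernel. -/
def Split (A : Type u) (Ω : Type v) [Group A] [MulAction A Ω] : Prop :=
  ∃ S : Set Ω, ∀ a : A, (∀ x, x ∈ S ↔ a • x ∈ S) → ∀ x : Ω, a • x = x

/-- The action on an invariant subset. -/
@[reducible] def setAct {A : Type u} {Ω : Type v} [Group A] [MulAction A Ω] (P : Set Ω)
    (hP : ∀ (a : A), ∀ x ∈ P, a • x ∈ P) : MulAction A P where
  smul a x := ⟨a • (x : Ω), hP a x x.2⟩
  one_smul x := Subtype.ext (one_smul A (x : Ω))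
  mul_smul a b x := Subtype.ext (mul_smul a b (x : Ω))

section
variable {A : Type u} {Ω : Type v} [Group A] [MulAction A Ω]

theorem split_union {P : Set Ω} (hP : ∀ (a : A), ∀ x ∈ P, a • x ∈ P)
    (hQ : ∀ (a : A), ∀ x ∈ Pᶜ, a • x ∈ Pᶜ) (h1 : letI := setAct P hP; Split A P)
    (h2 : letI := setAct Pᶜ hQ; Split A (Pᶜ : Set Ω)) : Split A Ω := by
  letI := setAct P hP
  letI := setAct Pᶜ hQ
  obtain ⟨S, hS⟩ := h1
  obtain ⟨T, hT⟩ := h2
  refine ⟨Subtype.val '' S ∪ Subtype.val '' T, fun a ha x => ?_⟩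
  have eS : ∀ y : P, (y : Ω) ∈ Subtype.val '' S ∪ Subtype.val '' T ↔ y ∈ S := by
    intro y
    refine ⟨?_, fun h => Or.inl ⟨y, h, rfl⟩⟩
    rintro (⟨z, hz, he⟩ | ⟨z, -, he⟩)
    · rwa [← Subtype.ext he]
    · exact absurd (he ▸ y.2) z.2
  have eT : ∀ y : (Pᶜ : Set Ω), (y : Ω) ∈ Subtype.val '' S ∪ Subtype.val '' T ↔ y ∈ T := by
    intro y
    refine ⟨?_, fun h => Or.inr ⟨y, h, rfl⟩⟩
    rintro (⟨z, -, he⟩ | ⟨z, hz, he⟩)
    · exact absurd (he ▸ z.2) y.2
    · rwa [← Subtype.ext he]
  by_cases hx : x ∈ P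
  · exact congrArg Subtype.val
      (hS a (fun y => by rw [← eS y, ← eS (a • y)]; exact ha y) ⟨x, hx⟩)
  · exact congrArg Subtype.val
      (hT a (fun y => by rw [← eT y, ← eT (a • y)]; exact ha y) ⟨x, hx⟩)

variable [Finite A]

theorem split_blocks (hA : Odd (Nat.card A)) {x : Ω} (htr : ∀ y : Ω, ∃ a : A, a • x = y)
    {H : Subgroup A} (hH : MulAction.stabilizer A x ≤ H) (hq : Split A (A ⧸ H))
    (hfib : ∀ (P : Set Ω) (hP : ∀ (h : H), ∀ y ∈ P, h • y ∈ P), (∀ y ∈ P, ∃ h ∈ H, h • x = y) →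
      letI := setAct P hP; Split H P) : Split A Ω := by
  classical
  choose τ hτ using htr
  let π : Ω → A ⧸ H := fun y => ((τ y : A) : A ⧸ H)
  have hπ : ∀ (a : A) (y : Ω), π (a • y) = a • π y := by
    intro a y
    refine QuotientGroup.eq.2 (hH ?_)
    change ((τ (a • y))⁻¹ * (a * τ y)) • x = x
    rw [mul_smul, mul_smul, hτ y, inv_smul_eq_iff, hτ]
  have hπx : π x = ((1 : A) : A ⧸ H) :=
    QuotientGroup.eq.2 (hH (by
      rw [MulAction.mem_stabilizer_iff, mul_one, inv_smul_eq_iff, hτ x]))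
  have hfix : ∀ h : H, (h : A) • (((1 : A) : A ⧸ H)) = ((1 : A) : A ⧸ H) := fun h => by
    change (((h : A) * 1 : A) : A ⧸ H) = _
    rw [mul_one]
    exact QuotientGroup.eq.2 (by rw [mul_one]; exact inv_mem h.2)
  let P : Set Ω := {y | π y = ((1 : A) : A ⧸ H)}
  have hP : ∀ (h : H), ∀ y ∈ P, h • y ∈ P := fun h y (hy : π y = _) => by
    change π ((h : A) • y) = _
    rw [hπ, hy, hfix]
  letI := setAct P hP
  obtain ⟨S0, hS0⟩ := hfib P hP fun y (hy : π y = _) => ⟨τ y, by
    have h1 : (τ y)⁻¹ * 1 ∈ H := QuotientGroup.eq.1 hy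
    rw [mul_one] at h1
    exact inv_mem_iff.1 h1, hτ y⟩
  obtain ⟨S', hS'⟩ := hq
  have hz : ∀ y : Ω, (π y).out⁻¹ • y ∈ P := fun y => by
    change π ((π y).out⁻¹ • y) = _
    rw [hπ, inv_smul_eq_iff]
    change π y = (((π y).out * 1 : A) : A ⧸ H)
    rw [mul_one]
    exact (QuotientGroup.out_eq' _).symm
  refine ⟨{y | ((⟨_, hz y⟩ : P) ∈ S0) ↔ π y ∈ S'}, fun a ha => ?_⟩
  have hmem : ∀ i : A ⧸ H, (a • i).out⁻¹ * (a * i.out) ∈ H := fun i => by
    refine QuotientGroup.eq.1 ?_
    rw [QuotientGroup.out_eq']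
    change a • i = ((a * i.out : A) : A ⧸ H)
    nth_rewrite 1 [← QuotientGroup.out_eq' i]
    rfl
  have key : ∀ (i : A ⧸ H) (z : P),
      (((⟨_, hmem i⟩ : H) • z ∈ S0) ↔ a • i ∈ S') ↔ ((z ∈ S0) ↔ i ∈ S') := by
    intro i z
    obtain ⟨y, hy⟩ : ∃ y, y = i.out • (z : Ω) := ⟨_, rfl⟩
    have hyi : π y = i := by
      rw [hy, hπ, show π z = _ from z.2]
      change ((i.out * 1 : A) : A ⧸ H) = i
      rw [mul_one]
      exact QuotientGroup.out_eq' i
    have h1 : (⟨_, hz y⟩ : P) = z := Subtype.ext (by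
      show (π y).out⁻¹ • y = (z : Ω)
      rw [hyi, hy, inv_smul_smul])
    have h2 : (⟨_, hz (a • y)⟩ : P) = (⟨_, hmem i⟩ : H) • z := Subtype.ext (by
      show (π (a • y)).out⁻¹ • a • y = ((a • i).out⁻¹ * (a * i.out)) • (z : Ω)
      rw [hπ, hyi, hy, mul_smul, mul_smul])
    have h3 := ha y
    simp only [Set.mem_setOf_eq] at h3
    rw [h1, h2, hπ, hyi] at h3
    exact h3.symm
  have hxP : x ∈ P := hπx
  have hfixQ : ∀ i : A ⧸ H, a • i = i := by
    refine hS' a fun i => ?_
    by_contra hne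
    let h : H := ⟨_, hmem i⟩
    have hflip : ∀ z : P, h • z ∈ S0 ↔ z ∉ S0 := fun z => by have := key i z; tauto
    have hsame : ∀ z : P, h • z = z := fun z => fix_of_sq (hA.of_dvd_nat (Subgroup.card_subgroup_dvd_card H))
      (by
        rw [← mul_smul]
        exact hS0 (h * h) (fun w => by rw [mul_smul, hflip, hflip, not_not]) z)
    have h1 := hflip ⟨x, hxP⟩
    rw [hsame] at h1
    exact iff_not_self h1
  intro y
  let h : H := ⟨_, hmem (π y)⟩
  have h1 : h • (⟨_, hz y⟩ : P) = ⟨_, hz y⟩ := hS0 h (fun z => by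
    have h2 := key (π y) z
    have h4 : a • π y ∈ S' ↔ π y ∈ S' := by rw [hfixQ]
    tauto) _
  have h2 : ((a • π y).out⁻¹ * (a * (π y).out)) • ((π y).out⁻¹ • y) = (π y).out⁻¹ • y :=
    congrArg Subtype.val h1
  rw [hfixQ, mul_smul, mul_smul, smul_inv_smul] at h2
  exact smul_left_cancel _ h2

end

/-- The primitive case. -/
theorem split_primitive {A Ω : Type v} [Group A] [Finite A] [MulAction A Ω] [Finite Ω] {n : ℕ}
    (hP : PB.{v} n) (hn : Nat.card Ω ≤ n) (h2 : 2 ≤ Nat.card Ω) (hA : Odd (Nat.card A))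
    (hf : ∀ a : A, (∀ y : Ω, a • y = y) → a = 1) {x : Ω} (htr : ∀ y : Ω, ∃ a : A, a • x = y)
    (hmax : ∀ H : Subgroup A, MulAction.stabilizer A x ≤ H →
      H = MulAction.stabilizer A x ∨ H = ⊤) : Split A Ω := by
  classical
  by_contra hno
  have hbad : ∀ S : Set Ω, ∃ a : A, (∀ y, y ∈ S ↔ a • y ∈ S) ∧ ∃ y : Ω, a • y ≠ y := by
    intro S
    by_contra hc
    refine hno ⟨S, fun a ha y => ?_⟩
    by_contra hy
    exact hc ⟨a, ha, y, hy⟩
  haveI : Nontrivial A := by
    rcases subsingleton_or_nontrivial A with hs | h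
    · obtain ⟨y, z, hyz⟩ : ∃ y z : Ω, y ≠ z :=
        (Finite.one_lt_card_iff_nontrivial.1 (by omega : 1 < Nat.card Ω)).exists_pair_ne
      obtain ⟨a, ha⟩ := htr y
      obtain ⟨b, hb⟩ := htr z
      exact absurd (by rw [← ha, ← hb, Subsingleton.elim a b]) hyz
    · exact h
  obtain ⟨q, T, hq, hT, hT1, hTc, hTq⟩ := exists_elem_normal (Cfsg.Agent.S0205.result hA)
  haveI := Fact.mk hq
  obtain ⟨A0, hA0⟩ : ∃ A0, A0 = MulAction.stabilizer A x := ⟨_, rfl⟩
  have hmem0 : ∀ {a : A}, a ∈ A0 ↔ a • x = x := fun {a} => by rw [hA0, MulAction.mem_stabilizer_iff]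
  -- `T` is regular
  have hTtr : ∀ y : Ω, ∃ t ∈ T, t • x = y := by
    have h1 : T ⊔ A0 = ⊤ := by
      rcases hmax (T ⊔ A0) (hA0 ▸ le_sup_right) with h | h
      · refine absurd ((Subgroup.eq_bot_iff_forall T).2 fun t ht => hf t fun y => ?_) hT1
        obtain ⟨a, rfl⟩ := htr y
        have h2 : a⁻¹ * t * a ∈ MulAction.stabilizer A x :=
          h ▸ Subgroup.mem_sup_left (by simpa using hT.conj_mem t ht a⁻¹)
        rw [MulAction.mem_stabilizer_iff, mul_smul, mul_smul, inv_smul_eq_iff] at h2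
        exact h2
      · exact h
    intro y
    obtain ⟨a, rfl⟩ := htr y
    haveI := hT
    have h2 : a ∈ ((T ⊔ A0 : Subgroup A) : Set A) := by rw [h1]; exact Subgroup.mem_top a
    rw [Subgroup.normal_mul, Set.mem_mul] at h2
    obtain ⟨t, ht, s, hs, rfl⟩ := h2
    exact ⟨t, ht, by rw [mul_smul, hmem0.1 hs]⟩
  have hreg : ∀ t ∈ T, ∀ y : Ω, t • y = y → t = 1 := by
    intro t ht y hy
    refine hf t fun z => ?_
    obtain ⟨r, hr, rfl⟩ := hTtr y
    obtain ⟨s, hs, rfl⟩ := hTtr z
    rw [← mul_smul, (hTc t ht r hr).eq, mul_smul, smul_left_cancel_iff] at hy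
    rw [← mul_smul, (hTc t ht s hs).eq, mul_smul, hy]
  have hTn : Nat.card T = Nat.card Ω := by
    refine Nat.card_eq_of_bijective (fun t : T => (t : A) • x) ⟨fun r s hrs => ?_, fun y => ?_⟩
    · have h1 := hreg ((s : A)⁻¹ * r) (mul_mem (inv_mem s.2) r.2) x
        (by rw [mul_smul, show (r : A) • x = (s : A) • x from hrs, inv_smul_smul])
      exact Subtype.ext (inv_mul_eq_one.1 h1).symm
    · obtain ⟨t, ht, h⟩ := hTtr y
      exact ⟨⟨t, ht⟩, h⟩
  have hdecomp : ∀ a : A, ∃ t ∈ T, ∃ g ∈ A0, a = t * g := fun a => by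
    obtain ⟨t, ht, h⟩ := hTtr (a • x)
    exact ⟨t, ht, t⁻¹ * a, hmem0.2 (by rw [mul_smul, inv_smul_eq_iff, h]), by rw [mul_inv_cancel_left]⟩
  -- `A₀` acts on `T`
  have hfaith : ∀ g ∈ A0, (∀ t ∈ T, g * t * g⁻¹ = t) → g = 1 := by
    intro g hg hgt
    refine hf g fun y => ?_
    obtain ⟨t, ht, rfl⟩ := hTtr y
    have h1 : g * t = t * g := by nth_rewrite 2 [← hgt t ht]; rw [inv_mul_cancel_right]
    rw [← mul_smul, h1, mul_smul, hmem0.1 hg]
  haveI := hT
  letI : CommGroup T :=
    { (inferInstance : Group T) with mul_comm := fun a b => Subtype.ext (hTc a a.2 b b.2).eq }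
  letI : MulDistribMulAction A0 T :=
    { smul := fun g t => ⟨(g : A) * t * (g : A)⁻¹, hT.conj_mem t t.2 g⟩
      one_smul := fun t => Subtype.ext (show ((1 : A0) : A) * t * ((1 : A0) : A)⁻¹ = t by simp)
      mul_smul := fun g h t => Subtype.ext
        (show ((g * h : A0) : A) * t * ((g * h : A0) : A)⁻¹ = g * (h * t * (h : A)⁻¹) * (g : A)⁻¹ by
          rw [Subgroup.coe_mul]; group)
      smul_mul := fun g s t => Subtype.ext
        (show (g : A) * ((s * t : T) : A) * (g : A)⁻¹ = (g * s * (g : A)⁻¹) * (g * t * (g : A)⁻¹) by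
          rw [Subgroup.coe_mul]; group)
      smul_one := fun g => Subtype.ext (show (g : A) * ((1 : T) : A) * (g : A)⁻¹ = 1 by simp) }
  letI : DistribMulAction A0 (Additive T) :=
    { smul := fun g t => Additive.ofMul (g • Additive.toMul t)
      one_smul := fun t => congrArg Additive.ofMul (one_smul A0 (Additive.toMul t))
      mul_smul := fun g h t => congrArg Additive.ofMul (mul_smul g h (Additive.toMul t))
      smul_zero := fun g => congrArg Additive.ofMul (smul_one g)
      smul_add := fun g s t => congrArg Additive.ofMul (smul_mul' g (Additive.toMul s) (Additive.toMul t)) }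
  haveI : Finite (Additive T) := (inferInstance : Finite T)
  have hcr : CR A0 (Additive T) := by
    refine cr_of_irred fun U hU => ?_
    let O : Set Ω := {y | ∃ t : T, Additive.ofMul t ∈ U ∧ (t : A) • x = y}
    let H : Subgroup A :=
      { carrier := {g | ∀ y, y ∈ O ↔ g • y ∈ O}
        one_mem' := fun y => by rw [one_smul]
        mul_mem' := fun {g h} hg hh y => by rw [mul_smul, hh y, hg (h • y)]
        inv_mem' := fun {g} hg y => by rw [hg (g⁻¹ • y), smul_inv_smul] }
    have hUH : ∀ t : T, Additive.ofMul t ∈ U → (t : A) ∈ H := by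
      intro t ht y
      constructor
      · rintro ⟨s, hs, rfl⟩
        exact ⟨t * s, U.add_mem ht hs, by rw [Subgroup.coe_mul, mul_smul]⟩
      · rintro ⟨s, hs, h⟩
        refine ⟨t⁻¹ * s, U.add_mem (U.neg_mem ht) hs, ?_⟩
        rw [Subgroup.coe_mul, mul_smul, h, Subgroup.coe_inv, inv_smul_smul]
    have hA0H : A0 ≤ H := by
      intro g hg y
      have move : ∀ (g : A0) (y : Ω), y ∈ O → (g : A) • y ∈ O := by
        rintro g _ ⟨s, hs, rfl⟩
        refine ⟨g • s, hU g _ hs, ?_⟩
        show ((g : A) * s * (g : A)⁻¹) • x = (g : A) • (s : A) • x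
        rw [mul_smul, mul_smul, show (g : A)⁻¹ • x = x from hmem0.1 (inv_mem g.2)]
      refine ⟨move ⟨g, hg⟩ y, fun h => ?_⟩
      have h1 := move ⟨g⁻¹, inv_mem hg⟩ _ h
      rwa [show ((⟨g⁻¹, inv_mem hg⟩ : A0) : A) = g⁻¹ from rfl, inv_smul_smul] at h1
    rcases hmax H (hA0 ▸ hA0H) with hH | hH
    · refine Or.inl ((AddSubgroup.eq_bot_iff_forall U).2 fun t ht => ?_)
      have h1 := hUH (Additive.toMul t) ht
      rw [hH, MulAction.mem_stabilizer_iff] at h1
      exact congrArg Additive.ofMul (Subtype.ext (hreg _ (Additive.toMul t).2 x h1) : Additive.toMul t = 1)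
    · refine Or.inr (AddSubgroup.eq_top_iff' U |>.2 fun t => ?_)
      have h1 : x ∈ O := ⟨1, U.zero_mem, one_smul A x⟩
      have h2 : ((Additive.toMul t : T) : A) ∈ H := hH ▸ Subgroup.mem_top _
      obtain ⟨s, hs, he⟩ := (h2 x).1 h1
      have h3 := hreg ((s : A)⁻¹ * (Additive.toMul t : T)) (mul_mem (inv_mem s.2) (Additive.toMul t).2) x
        (by rw [mul_smul, ← he, inv_smul_smul])
      rwa [show s = Additive.toMul t from Subtype.ext (inv_mul_eq_one.1 h3)] at hs
  have hodd0 : Odd (Nat.card A0) := hA.of_dvd_nat (Subgroup.card_subgroup_dvd_card A0)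
  have hVn : Nat.card (Additive T) = Nat.card Ω := hTn
  have hker : (kerV A0 (Additive T)).index = Nat.card A0 := by
    rw [show kerV A0 (Additive T) = ⊥ from (Subgroup.eq_bot_iff_forall _).2 fun g hg =>
      Subtype.ext (hfaith g g.2 fun t ht =>
        congrArg (fun s : Additive T => ((Additive.toMul s : T) : A)) (hg (Additive.ofMul ⟨t, ht⟩))),
      Subgroup.index_bot]
  have hB : Base A0 (Additive T) := hP A0 (Additive T) hodd0 hcr (by omega)
  have hA0sq : Nat.card A0 ≤ Nat.card Ω * Nat.card Ω := by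
    rw [← hker, ← hVn]; exact index_le_sq hB
  have hcardA : Nat.card A = Nat.card Ω * Nat.card A0 := by
    rw [← Subgroup.card_mul_index A0, mul_comm, hA0, MulAction.index_stabilizer]
    congr 1
    rw [show MulAction.orbit A x = Set.univ from Set.eq_univ_iff_forall.2 fun y => htr y,
      Set.ncard_univ]
  -- fixed points
  have hfp : ∀ g : A, g ≠ 1 → Nat.card (MulAction.fixedBy Ω g) = 0 ∨
      (Nat.card (MulAction.fixedBy Ω g) ∣ Nat.card Ω ∧
        Nat.card (MulAction.fixedBy Ω g) < Nat.card Ω) := by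
    intro g hg
    rcases isEmpty_or_nonempty (MulAction.fixedBy Ω g) with he | ⟨⟨y, hy⟩⟩
    · exact Or.inl Nat.card_of_isEmpty
    right
    let D : Subgroup T :=
      { carrier := {t | g * (t : A) = (t : A) * g}
        one_mem' := by simp
        mul_mem' := fun {s t} hs ht => by
          show g * ((s * t : T) : A) = ((s * t : T) : A) * g
          rw [Subgroup.coe_mul, ← mul_assoc, show g * (s : A) = s * g from hs, mul_assoc,
            show g * (t : A) = t * g from ht, mul_assoc]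
        inv_mem' := fun {t} (ht : Commute g (t : A)) => by
          show g * ((t⁻¹ : T) : A) = ((t⁻¹ : T) : A) * g
          rw [Subgroup.coe_inv]; exact ht.inv_right.eq }
    have hgy : g • y = y := hy
    obtain ⟨t0, ht0, rfl⟩ := hTtr y
    have hD : ∀ t : T, t ∈ D ↔ g • (t : A) • t0 • x = (t : A) • t0 • x := by
      intro t
      have e1 : g • (t : A) • t0 • x = (g * t * g⁻¹) • t0 • x := by
        conv_rhs => rw [mul_smul, inv_smul_eq_iff.2 hgy.symm, mul_smul]
      rw [e1]
      refine ⟨fun (h : g * (t : A) = t * g) => by rw [h, mul_inv_cancel_right], fun h => ?_⟩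
      have h1 := hreg ((t : A)⁻¹ * (g * t * g⁻¹)) (mul_mem (inv_mem t.2) (hT.conj_mem t t.2 g)) (t0 • x)
        (by rw [mul_smul, h, inv_smul_smul])
      show g * (t : A) = t * g
      rw [inv_mul_eq_one] at h1
      nth_rewrite 2 [h1]
      rw [inv_mul_cancel_right]
    have hcard : Nat.card D = Nat.card (MulAction.fixedBy Ω g) := by
      refine Nat.card_eq_of_bijective
        (fun t : D => (⟨((t : T) : A) • t0 • x, (hD t).1 t.2⟩ : MulAction.fixedBy Ω g))
        ⟨fun r s hrs => ?_, fun z => ?_⟩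
      · have h1 := hreg (((s : T) : A)⁻¹ * (r : T)) (mul_mem (inv_mem (s : T).2) (r : T).2) (t0 • x)
          (by rw [mul_smul, show ((r : T) : A) • t0 • x = ((s : T) : A) • t0 • x from congrArg Subtype.val hrs, inv_smul_smul])
        exact Subtype.ext (Subtype.ext (inv_mul_eq_one.1 h1).symm)
      · obtain ⟨t, ht, h⟩ := hTtr z
        have h1 : (t * t0⁻¹) • t0 • x = (z : Ω) := by rw [mul_smul, inv_smul_smul, h]
        refine ⟨⟨⟨t * t0⁻¹, mul_mem ht (inv_mem ht0)⟩, (hD _).2 ?_⟩, Subtype.ext h1⟩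
        show g • (t * t0⁻¹) • t0 • x = (t * t0⁻¹) • t0 • x
        rw [h1]; exact z.2
    refine ⟨hcard ▸ hTn ▸ Subgroup.card_subgroup_dvd_card D, lt_of_le_of_ne (Finite.card_subtype_le _) fun h => ?_⟩
    refine hg (hf g fun z => ?_)
    have h3 : MulAction.fixedBy Ω g = Set.univ :=
      Set.eq_of_subset_of_ncard_le (Set.subset_univ _) (by rw [Set.ncard_univ, ← Nat.card_coe_set_eq, h])
    exact (h3 ▸ Set.mem_univ z : z ∈ MulAction.fixedBy Ω g)
  -- the sizes
  obtain ⟨r, hr⟩ : ∃ r, Nat.card Ω = q ^ r := by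
    obtain ⟨r, hr⟩ := IsPGroup.iff_card.1 (fun t : T => (⟨1, by
      rw [pow_one]; exact Subtype.ext (by rw [SubmonoidClass.coe_pow]; exact hTq t t.2)⟩ : ∃ k, t ^ q ^ k = 1) : IsPGroup q T)
    exact ⟨r, hTn ▸ hr⟩
  have hr0 : r ≠ 0 := fun h => by rw [h, pow_zero] at hr; omega
  have hnodd : Odd (Nat.card Ω) := hA.of_dvd_nat (hcardA ▸ dvd_mul_right _ _)
  have hqodd : Odd q := hnodd.of_dvd_nat (hr ▸ dvd_pow_self q hr0)
  have hq3 : 3 ≤ q := by
    obtain ⟨t, ht⟩ := hqodd; have := hq.two_le; omega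
  have big : ∀ c : ℕ, (∀ g : A, g ≠ 1 → ∀ d, 3 * d ≤ Nat.card Ω + 2 * Nat.card (MulAction.fixedBy Ω g) → d ≤ c) →
      2 ^ (Nat.card Ω + 1) < Nat.card Ω * Nat.card A0 * 2 ^ c := by
    intro c hc
    rw [← hcardA]
    refine card_gt_of_no_good hA hf hbad fun g p hp hg => ?_
    have h3 : 3 ≤ p := by
      have hodd : Odd p := hA.of_dvd_nat (hg ▸ orderOf_dvd_natCard g)
      obtain ⟨t, ht⟩ := hodd; have := hp.two_le; omega
    obtain ⟨d, hd, hd'⟩ := exists_orbits (Ω := Ω) hp h3 hg
    exact hd.trans (Nat.pow_le_pow_right (by norm_num)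
      (hc g (fun h => by rw [h, orderOf_one] at hg; omega) d hd'))
  by_cases hr1 : r = 1
  · -- prime degree
    rw [hr1, pow_one] at hr
    have hqa : 2 * Nat.card A0 ≤ q - 1 := by
      let f : A0 →* MulAut T := MulDistribMulAction.toMulAut A0 T
      have hinj : Function.Injective f := (injective_iff_map_eq_one f).2 fun g hg =>
        Subtype.ext (hfaith g g.2 fun t ht => (congrArg Subtype.val (DFunLike.congr_fun hg (⟨t, ht⟩ : T)) :))
      haveI : IsCyclic T := isCyclic_of_prime_card (p := q) (hTn.trans hr)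
      have h1 : Nat.card A0 ∣ q - 1 := by
        rw [Nat.card_congr (Subgroup.topEquiv.symm).toEquiv]
        refine (Subgroup.card_dvd_of_injective (f.comp (Subgroup.subtype ⊤)) (hinj.comp Subtype.val_injective)).trans
          (dvd_of_eq ?_)
        rw [Nat.card_congr (IsCyclic.mulAutMulEquiv T).toEquiv, hTn, hr, Nat.card_eq_fintype_card,
          ZMod.card_units_eq_totient, Nat.totient_prime hq]
      obtain ⟨k, hk⟩ := h1
      obtain ⟨t, ht⟩ := hqodd
      obtain ⟨s, hs⟩ := hodd0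
      have hk2 : 2 ≤ k := by
        rcases Nat.lt_or_ge k 2 with h | h
        · interval_cases k <;> omega
        · exact h
      rw [hk, mul_comm 2]
      exact Nat.mul_le_mul_left _ hk2
    have h1 := arith_prime (p := q) (a := Nat.card A0) (c := (q + 2) / 3) hq3 hqa (by omega)
    have h2 := big ((q + 2) / 3) fun g hg d hd => by
      rcases hfp g hg with h | ⟨hdv, hlt⟩
      · omega
      · rw [hr] at hdv hlt
        rcases (Nat.dvd_prime hq).1 hdv with h | h <;> omega
    rw [hr] at h2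
    omega
  have hthird : ∀ g : A, g ≠ 1 → 3 * Nat.card (MulAction.fixedBy Ω g) ≤ Nat.card Ω := by
    intro g hg
    rcases hfp g hg with h | ⟨⟨k, hk⟩, hlt⟩
    · omega
    · have hk3 : 3 ≤ k := by
        obtain ⟨t, ht⟩ := hnodd.of_dvd_nat ⟨Nat.card (MulAction.fixedBy Ω g), hk.trans (mul_comm _ _)⟩
        rcases Nat.eq_zero_or_pos t with h0 | h0
        · rw [ht, h0, mul_zero, zero_add, mul_one] at hk; omega
        · omega
      calc 3 * Nat.card (MulAction.fixedBy Ω g) ≤ k * Nat.card (MulAction.fixedBy Ω g) :=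
            Nat.mul_le_mul_right _ hk3
        _ = _ := by rw [hk, mul_comm]
  have hcases : Nat.card Ω ∈ ({9, 25, 27} : Finset ℕ) ∨ 45 ≤ Nat.card Ω := by
    by_cases h : 45 ≤ Nat.card Ω
    · exact Or.inr h
    left
    rw [hr] at h ⊢
    have hq6 : q < 7 := by
      by_contra h7
      have := (Nat.pow_le_pow_left (Nat.le_of_not_lt h7) 2).trans (Nat.pow_le_pow_right (by omega) (by omega : 2 ≤ r))
      omega
    have hr4 : r < 4 := by
      by_contra h4
      have := (Nat.pow_le_pow_left hq3 4).trans (Nat.pow_le_pow_right (by omega) (Nat.le_of_not_lt h4))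
      omega
    have hr2 : 2 ≤ r := by omega
    obtain ⟨t, ht⟩ := hqodd
    interval_cases q <;> first | omega | (interval_cases r <;> simp at h ⊢)
  have hc9 : ∀ g : A, g ≠ 1 → ∀ d, 3 * d ≤ Nat.card Ω + 2 * Nat.card (MulAction.fixedBy Ω g) →
      d ≤ 5 * Nat.card Ω / 9 := fun g hg d hd => by
    have := hthird g hg
    omega
  rcases hcases with hsmall | hbig
  · have hle := hA0sq
    have h2 := big (5 * Nat.card Ω / 9) hc9
    have hsm : Nat.card Ω ∈ ({9, 27, 81} : Finset ℕ) → Nat.card A0 ≤ 39 := fun h => by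
      rw [← hker]
      exact (small_index hodd0 hcr (hVn.symm ▸ h)).1
    have h9 : Nat.card Ω = 9 → Nat.card A0 ≤ 1 := fun h => by
      rw [← hker]
      exact ((small_index hodd0 hcr (by rw [hVn, h]; simp)).2 (hVn.trans h)).le
    simp only [Finset.mem_insert, Finset.mem_singleton] at hsmall hsm
    rcases hsmall with h | h | h <;> rw [h] at h2 hle hsm h9
    · have h3 := h2.trans_le (Nat.mul_le_mul_right _ (Nat.mul_le_mul_left 9 (h9 rfl)))
      norm_num at h3
    · have h4 := big 11 fun g hg d hd => by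
        rw [h] at hd
        rcases hfp g hg with h0 | ⟨hdv, hlt⟩
        · omega
        · rw [h] at hdv hlt
          rw [show (25 : ℕ) = 5 ^ 2 by norm_num] at hdv
          obtain ⟨i, hi, e⟩ := (Nat.dvd_prime_pow Nat.prime_five).1 hdv
          interval_cases i <;> omega
      rw [h] at h4
      have h3 := h4.trans_le (Nat.mul_le_mul_right _ (Nat.mul_le_mul_left 25 hle))
      norm_num at h3
    · have h3 := h2.trans_le (Nat.mul_le_mul_right _ (Nat.mul_le_mul_left 27 (hsm (by tauto))))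
      norm_num at h3
  · have h1 := arith_large hbig hA0sq (show 9 * (5 * Nat.card Ω / 9) ≤ 5 * Nat.card Ω by omega)
    have h2 := big (5 * Nat.card Ω / 9) hc9
    omega

/-- Odd order permutation groups of degree at most `n` have a subset with stabiliser the kernel. -/
theorem split_of {n : ℕ} (hP : PB.{v} n) :
    ∀ m ≤ n, ∀ (A Ω : Type v) [Group A] [Finite A] [MulAction A Ω] [Finite Ω],
      Odd (Nat.card A) → Nat.card Ω = m → Split A Ω := by
  intro m
  induction m using Nat.strong_induction_on with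
  | _ m ih =>
    intro hmn A Ω _ _ _ _ hA hm
    by_cases h2 : Nat.card Ω < 2
    · haveI : Subsingleton Ω := Finite.card_le_one_iff_subsingleton.1 (by omega)
      exact ⟨∅, fun a _ x => Subsingleton.elim _ _⟩
    haveI : Nonempty Ω := (Nat.card_pos_iff.1 (by omega : 0 < Nat.card Ω)).1
    obtain ⟨x⟩ := ‹Nonempty Ω›
    have hlt : ∀ (P : Set Ω) (z : Ω), z ∉ P → Nat.card P < m := fun P z hz => by
      rw [← hm, Nat.card_coe_set_eq, ← Set.ncard_univ]
      exact Set.ncard_lt_ncard ⟨Set.subset_univ P, fun h => hz (h (Set.mem_univ z))⟩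
    by_cases htr : ∀ y : Ω, ∃ a : A, a • x = y
    swap
    · push Not at htr
      obtain ⟨y, hy⟩ := htr
      have hP' : ∀ (a : A), ∀ z ∈ MulAction.orbit A x, a • z ∈ MulAction.orbit A x := by
        rintro a _ ⟨b, rfl⟩
        exact ⟨a * b, mul_smul a b x⟩
      have hQ : ∀ (a : A), ∀ z ∈ (MulAction.orbit A x)ᶜ, a • z ∈ (MulAction.orbit A x)ᶜ :=
        fun a z hz h => hz (by simpa using hP' a⁻¹ _ h)
      refine split_union hP' hQ ?_ ?_
      · letI := setAct _ hP'
        have := hlt (MulAction.orbit A x) y (fun ⟨a, ha⟩ => hy a ha)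
        exact ih _ this (by omega) A _ hA rfl
      · letI := setAct _ hQ
        have := hlt (MulAction.orbit A x)ᶜ x (fun h => h (MulAction.mem_orbit_self x))
        exact ih _ this (by omega) A _ hA rfl
    have horb : (MulAction.stabilizer A x).index = Nat.card Ω := by
      rw [MulAction.index_stabilizer, show MulAction.orbit A x = Set.univ from
        Set.eq_univ_iff_forall.2 fun y => htr y, Set.ncard_univ]
    by_cases hmax : ∀ H : Subgroup A, MulAction.stabilizer A x ≤ H →
        H = MulAction.stabilizer A x ∨ H = ⊤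
    · let ρ := MulAction.toPermHom A Ω
      have hR : Odd (Nat.card ρ.range) := hA.of_dvd_nat (Subgroup.card_range_dvd ρ)
      obtain ⟨S, hS⟩ := split_primitive (A := ρ.range) (Ω := Ω) (x := x) hP (by omega) (by omega) hR
        (fun a h => Subtype.ext (Equiv.ext h))
        (fun y => by obtain ⟨a, ha⟩ := htr y; exact ⟨ρ.rangeRestrict a, ha⟩)
        (fun H hH => by
          have h1 : MulAction.stabilizer A x ≤ H.comap ρ.rangeRestrict := fun a ha => hH ha
          rcases hmax _ h1 with h | h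
          · refine Or.inl (le_antisymm (fun b hb => ?_) hH)
            obtain ⟨a, rfl⟩ := ρ.rangeRestrict_surjective b
            exact (h.le (show a ∈ H.comap ρ.rangeRestrict from hb) : a • x = x)
          · refine Or.inr (eq_top_iff.2 fun b _ => ?_)
            obtain ⟨a, rfl⟩ := ρ.rangeRestrict_surjective b
            exact h.ge (Subgroup.mem_top a))
      exact ⟨S, fun a ha => hS (ρ.rangeRestrict a) ha⟩
    · push Not at hmax
      obtain ⟨H, hH, hne, hne'⟩ := hmax
      obtain ⟨a, -, ha⟩ : ∃ a ∈ (⊤ : Subgroup A), a ∉ H := by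
        by_contra h; push Not at h; exact hne' (eq_top_iff.2 h)
      refine split_blocks hA htr hH ?_ fun P hP' hPH => ?_
      · have hd := Subgroup.index_dvd_of_le hH
        have h1 : H.index ≠ (MulAction.stabilizer A x).index := fun h => hne (by
          refine (Subgroup.eq_of_le_of_card_ge hH ?_).symm
          have e1 := Subgroup.card_mul_index H
          have e2 := Subgroup.card_mul_index (MulAction.stabilizer A x)
          rw [h, ← e2] at e1
          exact (Nat.eq_of_mul_eq_mul_right (by omega) e1).le)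
        have h2 := Nat.le_of_dvd (by omega) hd
        have h3 : Nat.card (A ⧸ H) < m := by rw [← Subgroup.index_eq_card]; omega
        exact ih _ h3 (by omega) A (A ⧸ H) hA rfl
      · have hout : a • x ∉ P := fun h => by
          obtain ⟨h', hh', he⟩ := hPH _ h
          have h1 : h'⁻¹ * a ∈ H := hH (by
            rw [MulAction.mem_stabilizer_iff, mul_smul, ← he, inv_smul_smul])
          exact ha (by simpa using H.mul_mem hh' h1)
        have hPlt := hlt P _ hout
        letI := setAct P hP'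
        exact ih _ hPlt (by omega) H P (hA.of_dvd_nat (Subgroup.card_subgroup_dvd_card H)) rfl

end Cfsg.Agent.Solv.OddPair
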